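import Cfsg.Agent.TriTwo.Flat
import Cfsg.Agent.StdRank2.HexFacts
import Cfsg.Agent.StdRank2.HexRank

/-!
# S1778, types `G2(q)` and `3D4(q)`, `q ≥ 4`: the frame of `A = ⟨root groups⟩`

`frame : Flat.Frame (AA σ x) (UU σ x) P₁ P₂ Q₁ Q₂ (x 4 1)` with `P₁ = gen (arc 1 7)`, `P₂ = gen (arc 0 7)`,
`Q₁ = gen (arc 2 5)`, `Q₂ = gen (arc 1 5)`; `Z(A) = 1`; `U` is a Sylow 2-subgroup of `A`.
-/

set_option autoImplicit false
set_option linter.unusedSectionVars false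

namespace Cfsg.Agent.HexToX

open Subgroup Cfsg.Agent.StdRank2.Hex Cfsg.Agent.SplitTwo Cfsg.Agent.StdEven.Syl Cfsg.Agent.TriTwo
open Cfsg.Agent.StdRank2.Hex.HexTwo
open scoped commutatorElement

variable {E : Type*} [Field E] {σ : E ≃+* E} {G : Type*} [Group G] {x : ZMod 12 → E → G}

theorem conj_to_comm (a b : G) : a * b * a⁻¹ * b⁻¹ = ⁅a, b⁆ := by rw [commutatorElement_def]

section

variable (h : HexTwo σ x)
include h

/-- `A = ⟨P₁, P₂⟩` -/
theorem AA_le : AA σ x ≤ gen σ x (arc 1 7) ⊔ gen σ x (arc 0 7) := by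
  have m1 : ∀ k : ZMod 12, (k - 1).val < 7 → ∀ a, Ok σ k a → x k a ∈ gen σ x (arc 1 7) ⊔ gen σ x (arc 0 7) :=
    fun k hk a ha => (le_sup_left : gen σ x (arc 1 7) ≤ _) (x_mem_gen hk ha)
  have m0 : ∀ a, Ok σ (0 : ZMod 12) a → x 0 a ∈ gen σ x (arc 1 7) ⊔ gen σ x (arc 0 7) :=
    fun a ha => (le_sup_right : gen σ x (arc 0 7) ≤ _) (x_mem_gen (self_mem_arc (by norm_num)) ha)
  have n1 : nn x 1 ∈ gen σ x (arc 1 7) ⊔ gen σ x (arc 0 7) :=
    mul_mem (mul_mem (m1 1 (by decide) _ (ok_one σ _)) (m1 7 (by decide) _ (ok_one σ _))) (m1 1 (by decide) _ (ok_one σ _))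
  have n6 : nn x 6 ∈ gen σ x (arc 1 7) ⊔ gen σ x (arc 0 7) :=
    mul_mem (mul_mem (m1 6 (by decide) _ (ok_one σ _)) (m0 _ (ok_one σ _))) (m1 6 (by decide) _ (ok_one σ _))
  have c1 : ∀ j : ZMod 12, (∀ a, Ok σ j a → x j a ∈ gen σ x (arc 1 7) ⊔ gen σ x (arc 0 7)) → ∀ a, Ok σ (8 - j) a →
      x (8 - j) a ∈ gen σ x (arc 1 7) ⊔ gen σ x (arc 0 7) := by
    intro j hj a ha
    have ha' : Ok σ j a := ha.congr (val_8_sub j).symm
    rw [← h.refl1 j a ha']
    exact mul_mem (mul_mem n1 (hj a ha')) (inv_mem n1)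
  have c6 : ∀ j : ZMod 12, (∀ a, Ok σ j a → x j a ∈ gen σ x (arc 1 7) ⊔ gen σ x (arc 0 7)) → ∀ a, Ok σ (6 - j) a →
      x (6 - j) a ∈ gen σ x (arc 1 7) ⊔ gen σ x (arc 0 7) := by
    intro j hj a ha
    have ha' : Ok σ j a := ha.congr (val_6_sub j).symm
    rw [← h.refl6 j a ha']
    exact mul_mem (mul_mem n6 (hj a ha')) (inv_mem n6)
  have h11 : ∀ a, Ok σ (11 : ZMod 12) a → x 11 a ∈ gen σ x (arc 1 7) ⊔ gen σ x (arc 0 7) := c6 7 (m1 7 (by decide))
  have h8 : ∀ a, Ok σ (8 : ZMod 12) a → x 8 a ∈ gen σ x (arc 1 7) ⊔ gen σ x (arc 0 7) := c1 0 m0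
  have h10 : ∀ a, Ok σ (10 : ZMod 12) a → x 10 a ∈ gen σ x (arc 1 7) ⊔ gen σ x (arc 0 7) := c6 8 h8
  have h9 : ∀ a, Ok σ (9 : ZMod 12) a → x 9 a ∈ gen σ x (arc 1 7) ⊔ gen σ x (arc 0 7) := c1 11 h11
  refine gen_le (S := Set.univ) fun k _ a ha => ?_
  have key : ∀ k : ZMod 12, (k - 1).val < 7 ∨ k = 0 ∨ k = 8 ∨ k = 9 ∨ k = 10 ∨ k = 11 := by decide
  rcases key k with hk | rfl | rfl | rfl | rfl | rfl
  · exact m1 k hk a ha
  · exact m0 a ha
  · exact h8 a ha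
  · exact h9 a ha
  · exact h10 a ha
  · exact h11 a ha

variable [Finite E] {ω : E} (hω : σ ω = ω) (h0 : ω ≠ 0) (h1 : ω ≠ 1)
include hω h0 h1

/-- `x j a` is a commutator with `hh x k ω` if the weight is not one. -/
theorem x_comm_hh {k j : ZMod 12} {c : E} (hc : ch σ k (j - k) ω = c) (hcf : σ c = c) (hc1 : c ≠ 1) {a : E}
    (ha : Ok σ j a) : ⁅hh x k ω, x j ((c + 1)⁻¹ * a)⁆ = x j a := by
  have hne : c + 1 ≠ 0 := by
    intro e
    exact hc1 (add_right_cancel (e.trans (h.add_self 1).symm))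
  have okc : Ok σ j (c + 1)⁻¹ := fun _ => by rw [map_inv₀, map_add, hcf, map_one]
  have okb : Ok σ j ((c + 1)⁻¹ * a) := okc.mul ha
  have ok2 : Ok σ j (c * ((c + 1)⁻¹ * a)) := Ok.mul (fun _ => hcf) okb
  rw [commutatorElement_def, h.tor k j h0 (ok_of_fix _ hω) okb, hc, h.x_inv okb, ← h.add j _ _ ok2 okb]
  congr 1
  field_simp

/-- `P₁` is perfect -/
theorem P1_perfect : ⁅gen σ x (arc 1 7), gen σ x (arc 1 7)⁆ = gen σ x (arc 1 7) := by
  refine le_antisymm (Subgroup.commutator_le_self _) (gen_le fun k hk a ha => ?_)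
  have m : ∀ (j : ZMod 12) (b : E), (j - 1).val < 7 → Ok σ j b → x j b ∈ gen σ x (arc 1 7) := fun j b hj hb =>
    x_mem_gen hj hb
  have mh : ∀ b, hh x 1 b ∈ gen σ x (arc 1 7) := fun b =>
    hh_mem_gen (by rw [mem_arc]; decide) (by rw [mem_arc]; decide) (ok1 b)
  have mh7 : ∀ b, hh x 7 b ∈ gen σ x (arc 1 7) := fun b =>
    hh_mem_gen (by rw [mem_arc]; decide) (by rw [mem_arc]; decide) (ok_odd (by decide) b)
  have key : ∀ k : ZMod 12, (k - 1).val < 7 → k = 1 ∨ k = 2 ∨ k = 3 ∨ k = 4 ∨ k = 5 ∨ k = 6 ∨ k = 7 := by decide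
  have c2 := h.commS2 (k := 1) (by decide)
  have c4 := h.commS2 (k := 3) (by decide)
  have c6 := h.commS2 (k := 5) (by decide)
  rcases key k hk with rfl | rfl | rfl | rfl | rfl | rfl | rfl
  · rw [← h.x_eq_comm h0 (ok1 ω) h1 (ok1 a)]
    exact commutator_mem_commutator (mh ω) (m 1 _ (by decide) (ok1 _))
  · have e := c2 1 a
    rw [show (1 : ZMod 12) + 1 = 2 from rfl, show (1 : ZMod 12) + 2 = 3 from rfl, h.trc_one_right (ha (by decide))] at e
    rw [← e]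
    exact commutator_mem_commutator (m 1 _ (by decide) (ok1 _)) (m 3 _ (by decide) (ok3 _))
  · have hc : ch σ 1 (3 - 1) ω = ω := by
      change ω⁻¹ * shp σ ω = ω
      unfold shp
      rw [hω, hω]
      field_simp
    rw [← x_comm_hh h hω h0 h1 hc hω h1 (ok3 a)]
    exact commutator_mem_commutator (mh ω) (m 3 _ (by decide) (ok3 _))
  · have e := c4 1 a
    rw [show (3 : ZMod 12) + 1 = 4 from rfl, show (3 : ZMod 12) + 2 = 5 from rfl, h.trc_one_right (ha (by decide))] at e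
    rw [← e]
    exact commutator_mem_commutator (m 3 _ (by decide) (ok3 _)) (m 5 _ (by decide) (ok5 _))
  · have hc : ch σ 1 (5 - 1) ω = ω⁻¹ := by
      change ω * (shp σ ω)⁻¹ = ω⁻¹
      unfold shp
      rw [hω, hω]
      field_simp
    rw [← x_comm_hh h hω h0 h1 hc (by rw [map_inv₀, hω]) (fun e => h1 (inv_eq_one.1 e)) (ok5 a)]
    exact commutator_mem_commutator (mh ω) (m 5 _ (by decide) (ok5 _))
  · have e := c6 1 a
    rw [show (5 : ZMod 12) + 1 = 6 from rfl, show (5 : ZMod 12) + 2 = 7 from rfl, h.trc_one_right (ha (by decide))] at e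
    rw [← e]
    exact commutator_mem_commutator (m 5 _ (by decide) (ok5 _)) (m 7 _ (by decide) (ok_odd (by decide) _))
  · rw [← h.x_eq_comm h0 (ok_odd (by decide) ω) h1 (ok_odd (by decide) a)]
    exact commutator_mem_commutator (mh7 ω) (m 7 _ (by decide) (ok_odd (by decide) _))

/-- **The frame.** -/
theorem frame [Finite G] : Flat.Frame (AA σ x) (UU σ x) (gen σ x (arc 1 7)) (gen σ x (arc 0 7)) (gen σ x (arc 2 5))
    (gen σ x (arc 1 5)) (x 4 1) where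
  U_A := gen_le_AA _
  two := h.isPGroup_U
  z_U := x_mem_gen (by rw [mem_arc]; decide) (ok_one σ _)
  zz := h.x_sq (ok_one σ _)
  z1 := fun e => one_ne_zero (h.inj 4 1 (ok_one σ _) e)
  P1_iff := fun a => by
    constructor
    · intro ha
      exact ⟨gen_le_AA _ ha, mul_inv_eq_iff_eq_mul.1 ((h.mem_centralizer_x4 (gen_le_AA _ ha) (map_one σ) one_ne_zero).2 ha)⟩
    · rintro ⟨ha, hc⟩
      exact (h.mem_centralizer_x4 ha (map_one σ) one_ne_zero).1 (mul_inv_eq_iff_eq_mul.2 hc)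
  perf := P1_perfect h hω h0 h1
  gen1 := gen_le fun k hk a ha => Subgroup.subset_closure ⟨x_mem_gen hk ha, 1, by
    rw [pow_one, pow_two, h.x_sq ha]⟩
  P2_A := gen_le_AA _
  gen := AA_le h
  n1 := by
    intro p hp
    apply mem_normalizer_of_conj_le
    intro q hq
    obtain ⟨u, hu, l, hl, rfl⟩ := (h.mem_P 1).1 hp
    have h2 : l * q * l⁻¹ ∈ StdRank2.Hex.gen σ x (arc (1 + 1) 5) := h.L_conj 1 hl hq
    have h3 : u * (l * q * l⁻¹) * u⁻¹ ∈ StdRank2.Hex.gen σ x (arc (1 + 1) 5) := mul_mem (mul_mem hu h2) (inv_mem hu)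
    rwa [show u * (l * q * l⁻¹) * u⁻¹ = u * l * q * (u * l)⁻¹ by group] at h3
  n2 := by
    intro p hp
    apply mem_normalizer_of_conj_le
    intro q hq
    obtain ⟨u, hu, l, hl, rfl⟩ := (h.mem_P 0).1 hp
    have h2 : l * q * l⁻¹ ∈ StdRank2.Hex.gen σ x (arc (0 + 1) 5) := h.L_conj 0 hl hq
    have h3 : u * (l * q * l⁻¹) * u⁻¹ ∈ StdRank2.Hex.gen σ x (arc (0 + 1) 5) := mul_mem (mul_mem hu h2) (inv_mem hu)
    rwa [show u * (l * q * l⁻¹) * u⁻¹ = u * l * q * (u * l)⁻¹ by group] at h3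
  Q1_U := gen_mono (by
    have : ∀ l : ZMod 12, (l - 2).val < 5 → (l - 1).val < 6 := by decide
    exact this)
  Q2_U := gen_mono (arc_mono (by norm_num))
  U_P1 := gen_mono (arc_mono (by norm_num))
  U_P2 := gen_mono (by
    have : ∀ l : ZMod 12, (l - 1).val < 6 → (l - 0).val < 7 := by decide
    exact this)
  c1 := fun a ha hq => by
    have h2 := h.mem_X4_of ha fun v hv => hq v hv
    exact gen_mono (by
      intro l hl
      rw [Set.mem_singleton_iff] at hl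
      subst hl
      rw [mem_arc]; decide) h2
  c2 := fun a ha hq => by
    have h2 := h.mem_W_of ha fun v hv => hq v hv
    exact gen_mono (by
      intro l hl
      rcases hl with rfl | hl
      · rw [mem_arc]; decide
      · rw [Set.mem_singleton_iff] at hl
        subst hl
        rw [mem_arc]; decide) h2

omit hω h0 h1 in
/-- `Z(A) = 1` -/
theorem center_AA {a : G} (ha : a ∈ AA σ x) (hcomm : ∀ b ∈ AA σ x, a * b = b * a) : a = 1 := by
  have h2 := h.mem_X4_of ha fun v hv => hcomm v (gen_le_AA _ hv)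
  obtain ⟨c, hc, rfl⟩ := h.mem_gen_singleton.1 h2
  have hc' : σ c = c := hc (by decide)
  have c4 := h.commL4 (k := 0) (by decide) (map_one σ) hc'
  rw [show (0 : ZMod 12) + 4 = 4 from rfl, show (0 : ZMod 12) + 2 = 2 from rfl, one_mul] at c4
  have h3 : ⁅x 0 1, x 4 c⁆ = 1 :=
    commutatorElement_eq_one_iff_mul_comm.mpr (hcomm (x 0 1) (x_mem_AA (ok_one σ _))).symm
  rw [h3] at c4
  have := h.inj 2 c (ok_of_fix _ hc') c4.symm
  rw [this, h.x_zero]

omit hω h0 h1 in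
/-- `U` is a Sylow 2-subgroup of `A` -/
theorem isSyl_U [Finite G] : IsSyl (UU σ x) (AA σ x) := by
  refine ⟨gen_le_AA _, h.isPGroup_U, fun X hX hXA hUX => ?_⟩
  obtain ⟨p, -, hp⟩ := h.sylow_conj (gen_le_AA _) le_rfl hX hXA
  refine (Subgroup.eq_of_le_of_card_ge hUX ?_).symm
  rw [Nat.card_congr (X.equivMapOfInjective (MulAut.conj p).toMonoidHom (MulAut.conj p).injective).toEquiv]
  apply Subgroup.card_le_of_le
  rintro _ ⟨y, hy, rfl⟩
  exact hp y hy

end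

end Cfsg.Agent.HexToX
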