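import Cfsg.Agent.HexToX.Frame
import Cfsg.Agent.TriTwo.Transport
import Cfsg.Agent.HexGrow.TwoEnd

/-!
# S1778, types `G2(q)` and `3D4(q)`, `q ≥ 4`: from `G` to `X = N_G(O) / O`

* `exists_hex` : the root system in `X`;
* `mover_mem`, `exists_moverX` : the mover in `X`;
* `tX_not_mem`, `tX_comm`, `cenX` : the facts on `C(t̄)` not depending on outer automorphisms.
-/

set_option autoImplicit false
set_option linter.unusedSectionVars false

namespace Cfsg.Agent.HexToX

open Subgroup Cfsg.Agent.StdRank2.Hex Cfsg.Agent.SplitTwo Cfsg.Agent.StdEven.Syl Cfsg.Agent.TriTwo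
open Cfsg.Agent.StdEven.CoreQuot Cfsg.Agent.StdEven.Loc
open Cfsg.Agent.StdRank2.Hex.HexTwo
open scoped commutatorElement

variable {E : Type*} [Field E] {σ : E ≃+* E} {G : Type*} [Group G] {x : ZMod 12 → E → G}

open Classical in
/-- The root elements in `X = N_G(O) / O`. -/
noncomputable def xX (A : Subgroup G) (t : G) (x : ZMod 12 → E → G) : ZMod 12 → E → XQ A t := fun k a =>
  if hk : x k a ∈ NO A t then pr A t ⟨x k a, hk⟩ else 1

theorem xX_eq {A : Subgroup G} {t : G} {k : ZMod 12} {a : E} (hk : x k a ∈ NO A t) :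
    xX A t x k a = pr A t ⟨x k a, hk⟩ := dif_pos hk

section Hyp

variable [Finite E] [Finite G] {t : G} {T : Subgroup G} (h : HexTwo σ x) (H : Hyp (AA σ x) t T)
include h H

open Classical in
/-- The root system in `X`, and the images of `⟨x k⟩`. -/
theorem exists_hex : HexTwo σ (xX (AA σ x) t x) ∧
    ∀ S : Set (ZMod 12), im (AA σ x) t (StdRank2.Hex.gen σ x S) = StdRank2.Hex.gen σ (xX (AA σ x) t x) S := by
  let f : ↥(AA σ x) →* XQ (AA σ x) t := (pr (AA σ x) t).comp (Subgroup.inclusion H.A_le)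
  have hfi : Function.Injective f := by
    rw [injective_iff_map_eq_one]
    intro a ha
    have h1 : (a : G) ∈ core (AA σ x) t := pr_eq_one.mp ha
    have h2 := (H.mem_core_iff_center a.2).mp h1
    apply Subtype.ext
    exact center_AA h a.2 fun b hb => (congrArg Subtype.val (mem_center_iff.mp h2 ⟨b, hb⟩)).symm
  let x'' : ZMod 12 → E → ↥(AA σ x) := fun k a => if hk : x k a ∈ AA σ x then ⟨x k a, hk⟩ else 1
  have hx'' : ∀ k a, Ok σ k a → x k a = (AA σ x).subtype (x'' k a) := by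
    intro k a ha
    show x k a = ((if hk : x k a ∈ AA σ x then ⟨x k a, hk⟩ else 1 : ↥(AA σ x)) : G)
    rw [dif_pos (x_mem_AA ha)]
  have hx' : ∀ k a, Ok σ k a → xX (AA σ x) t x k a = f (x'' k a) := by
    intro k a ha
    rw [xX_eq (H.A_le (x_mem_AA ha))]
    show pr (AA σ x) t ⟨x k a, _⟩ = pr (AA σ x) t (Subgroup.inclusion H.A_le (x'' k a))
    congr 1
    exact Subtype.ext (hx'' k a ha)
  refine ⟨(Transport.hexTwo_iff f hx' hfi).mp ((Transport.hexTwo_iff (AA σ x).subtype hx''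
    Subtype.val_injective).mpr h), fun S => ?_⟩
  have e1 : StdRank2.Hex.gen σ (xX (AA σ x) t x) S = (StdRank2.Hex.gen σ x'' S).map f := Transport.map_gens f hx' S
  have e2 : StdRank2.Hex.gen σ x S = (StdRank2.Hex.gen σ x'' S).map (AA σ x).subtype :=
    Transport.map_gens (AA σ x).subtype hx'' S
  rw [e1, e2]
  apply le_antisymm
  · intro y hy
    obtain ⟨n, ⟨a, ha, hn⟩, rfl⟩ := mem_im.mp hy
    refine ⟨a, ha, ?_⟩
    show pr (AA σ x) t (Subgroup.inclusion H.A_le a) = pr (AA σ x) t n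
    congr 1
    exact Subtype.ext hn
  · rintro _ ⟨a, ha, rfl⟩
    exact pr_mem_im (Y := (StdRank2.Hex.gen σ x'' S).map (AA σ x).subtype) (n := ⟨(a : G), H.A_le a.2⟩) ⟨a, ha, rfl⟩

theorem hexX : HexTwo σ (xX (AA σ x) t x) := (exists_hex h H).1

theorem im_gen (S : Set (ZMod 12)) :
    im (AA σ x) t (StdRank2.Hex.gen σ x S) = StdRank2.Hex.gen σ (xX (AA σ x) t x) S := (exists_hex h H).2 S

theorem im_AA : im (AA σ x) t (AA σ x) = AA σ (xX (AA σ x) t x) := im_gen h H Set.univ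

/-- `t̄` centralises the root groups -/
theorem tX_comm {k : ZMod 12} {a : E} (ha : Ok σ k a) :
    xX (AA σ x) t x k a * H.tX = H.tX * xX (AA σ x) t x k a :=
  H.im_A_comm (by rw [im_AA h H]; exact x_mem_AA ha)

/-- `t̄ ∉ A` -/
theorem tX_not_mem : H.tX ∉ AA σ (xX (AA σ x) t x) := by
  intro h1
  refine H.tX_ne (center_AA (hexX h H) h1 fun b hb => ?_)
  exact (H.im_A_comm (by rw [im_AA h H]; exact hb)).symm

/-- The centraliser of `A` in `C(t̄)` is `⟨t̄⟩`. -/
theorem cenX {c : XQ (AA σ x) t} (hc : c * H.tX = H.tX * c)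
    (hx : ∀ k a, Ok σ k a → c * xX (AA σ x) t x k a = xX (AA σ x) t x k a * c) : c = 1 ∨ c = H.tX := by
  refine H.eq_of_cent hc fun a ha => ?_
  rw [im_AA h H] at ha
  have h1 : AA σ (xX (AA σ x) t x) ≤ centralizer ({c} : Set (XQ (AA σ x) t)) := gen_le fun k _ b hb => by
    rw [mem_centralizer_singleton_iff]
    exact (hx k b hb).symm
  have h2 := h1 ha
  rw [mem_centralizer_singleton_iff] at h2
  exact h2.symm

/-- elements of `C(t̄)` normalise `A` -/
theorem normX {c : XQ (AA σ x) t} (hc : c * H.tX = H.tX * c) {a : XQ (AA σ x) t}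
    (ha : a ∈ AA σ (xX (AA σ x) t x)) : c * a * c⁻¹ ∈ AA σ (xX (AA σ x) t x) := by
  rw [← im_AA h H] at ha ⊢
  exact H.conj_mem_im hc ha

variable {ω : E} (hω : σ ω = ω) (h0 : ω ≠ 0) (h1 : ω ≠ 1)
include hω h0 h1

/-- The mover lies in `N_G(O)`. -/
theorem mover_mem {g z : G} (hg : g ∈ normalizer (StdRank2.Hex.gen σ x (arc 1 7) : Set G))
    (hgt : g * t * g⁻¹ = t * z) (hz : z ∈ StdRank2.Hex.gen σ x (arc 1 7)) : g ∈ NO (AA σ x) t := by
  have F := frame (G := G) h hω h0 h1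
  set Y : Subgroup G := StdRank2.Hex.gen σ x (arc 1 7) ⊔ zpowers t with hY
  have hPY : StdRank2.Hex.gen σ x (arc 1 7) ≤ Y := le_sup_left
  have htY : t ∈ Y := (le_sup_right : zpowers t ≤ Y) (mem_zpowers t)
  have hgY : g ∈ normalizer (Y : Set G) := by
    apply mem_normalizer_of_conj_le
    have : Y ≤ Y.comap (MulAut.conj g).toMonoidHom := by
      refine sup_le ?_ ?_
      · intro p hp
        exact hPY ((mem_normalizer_iff.mp hg p).mp hp)
      · rw [zpowers_le]
        show g * t * g⁻¹ ∈ Y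
        rw [hgt]
        exact mul_mem htY (hPY hz)
    exact fun y hy => this hy
  refine H.normalizer_le_of_core (Y := Y) (fun o ho y hy => ?_) (fun y hy hyo => ?_) hgY
  · have hoA := H.core_le ho
    have hot := H.comm_t ho
    have : Y ≤ centralizer ({o} : Set G) := by
      refine sup_le ?_ ?_
      · intro p hp
        rw [mem_centralizer_singleton_iff]
        exact (comm_of_centralizer hoA (F.P1_A hp)).symm
      · rw [zpowers_le, mem_centralizer_singleton_iff]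
        exact hot.symm
    have h2 := this hy
    rw [mem_centralizer_singleton_iff] at h2
    exact h2.symm
  · refine H.mem_core.mpr ⟨?_, hy t htY, hyo⟩
    rw [mem_centralizer_iff]
    intro a ha
    exact (F.odd1 (H.mem_normalizer (hy t htY)) hyo (fun q hq => hy q (hPY (F.U_P1 (F.Q1_U hq)))) a ha).symm

/-- **The mover in `X`.** -/
theorem exists_moverX {g z : G} (hg : g ∈ normalizer (StdRank2.Hex.gen σ x (arc 1 7) : Set G))
    (hgt : g * t * g⁻¹ = t * z) (hz : z ∈ StdRank2.Hex.gen σ x {4}) (hz1 : z ≠ 1) :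
    ∃ n₀ z₁ : XQ (AA σ x) t, n₀ * H.tX * n₀⁻¹ = H.tX * z₁ ∧ z₁ ∈ StdRank2.Hex.gen σ (xX (AA σ x) t x) {4} ∧
      z₁ ≠ 1 ∧ ∀ a ∈ StdRank2.Hex.gen σ (xX (AA σ x) t x) (arc 1 7),
        n₀ * a * n₀⁻¹ ∈ StdRank2.Hex.gen σ (xX (AA σ x) t x) (arc 1 7) := by
  have hz' : z ∈ StdRank2.Hex.gen σ x (arc 1 7) := gen_mono (by
    intro l hl
    rw [Set.mem_singleton_iff] at hl
    subst hl
    rw [mem_arc]; decide) hz
  have hgN := mover_mem h H hω h0 h1 hg hgt hz'
  have hzN : z ∈ NO (AA σ x) t := H.A_le (gen_le_AA _ hz')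
  refine ⟨pr (AA σ x) t ⟨g, hgN⟩, pr (AA σ x) t ⟨z, hzN⟩, ?_, ?_, ?_, ?_⟩
  · rw [H.tX_eq, ← map_inv, ← map_mul, ← map_mul, ← map_mul]
    congr 1
    exact Subtype.ext hgt
  · rw [← im_gen h H]
    exact pr_mem_im (n := ⟨z, hzN⟩) hz
  · intro e
    have h2 : z ∈ core (AA σ x) t := pr_eq_one.mp e
    have h3 := (H.mem_core_iff_center (gen_le_AA _ hz')).mp h2
    exact hz1 (center_AA h (gen_le_AA _ hz') fun b hb => (congrArg Subtype.val (mem_center_iff.mp h3 ⟨b, hb⟩)).symm)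
  · intro a ha
    have h2 := H.pr_mem_normalizer (g := ⟨g, hgN⟩) hg
    rw [im_gen h H] at h2
    exact (mem_normalizer_iff.mp h2 a).mp ha

end Hyp

end Cfsg.Agent.HexToX
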