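import Cfsg.Agent.HexToX.FieldEnd
import Cfsg.Agent.HexEight.Glue

/-!
# S1778, types `G2(q)` and `3D4(q)`, `q ≥ 4`: split case or field case
-/

set_option autoImplicit false
set_option linter.unusedSectionVars false

namespace Cfsg.Agent.HexToX

open Subgroup Cfsg.Agent.StdRank2.Hex Cfsg.Agent.SplitTwo Cfsg.Agent.StdEven.Syl
open Cfsg.Agent.StdEven.CoreQuot Cfsg.Agent.StdEven.Loc Cfsg.Agent.StdL2.Setup
open Cfsg.Agent.StdRank2.Hex.HexTwo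
open Cfsg.Agent.HexGrow.Defs (UU Grown)
open Cfsg.Agent.HexGrow.OfHexTwo (XX)
open Cfsg.Agent.WreathFusion.HexPure (Pure ok_aut)

/-- the growth in the form of `HexEight` -/
theorem grX {E : Type*} [Field E] {σ : E ≃+* E} {G : Type*} [Group G] {x : ZMod 12 → E → G}
    [Finite E] [Finite G] {t : G} {T : Subgroup G} (h : HexTwo σ x) (H : Hyp (AA σ x) t T)
    {V : ZMod 12 → Subgroup (XQ (AA σ x) t)}
    (W : Grown H.tX (hexX h H).H (XX σ (xX (AA σ x) t x)) (nn (xX (AA σ x) t x)) V) :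
    HexEight.Def.Gr σ (xX (AA σ x) t x) H.tX V :=
  HexEight.Def.gr_of_grown (hexX h H) H.tX_sq (fun _ _ ha => (tX_comm h H ha).symm)
    (fun _ _ => (hexX h H).mem_gen_singleton) (fun _ hs => (hexX h H).hh1_mem_H hs)
    (fun _ hs hs' => (hexX h H).hh6_mem_H hs hs') W

variable {F K : Type*} [Field F] [Field K] [Finite K] [Algebra F K] {φ : K ≃ₐ[F] K}
  (hφ : Cfsg.Agent.Hex.Defs.CubicPair φ) {G : Type*} [Group G] [Finite G] {x : ZMod 12 → K → G}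
  {L : Subgroup G} {t : G} {T : Subgroup G} (C : Conf L (AA (φ : K ≃+* K) x) t)
  (h : HexTwo (φ : K ≃+* K) x) (H : Hyp (AA (φ : K ≃+* K) x) t T) {ω : K} (hω : (φ : K ≃+* K) ω = ω) (h0 : ω ≠ 0)
  (h1 : ω ≠ 1)
include hφ C h H hω h0 h1

/-- **From the adapted `T` and the mover: the split case in `X`, or the field case with its end in `G`.** -/
theorem alt (hδ : (∃ l : F, l ^ 2 ≠ l) ∨ ∃ a, φ a ≠ a) (hU : UU (XX (φ : K ≃+* K) x) 1 ≤ T)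
    (hp : ∀ f ∈ T, ∃ u ∈ UU (XX (φ : K ≃+* K) x) 1, ∃ ρ : K ≃+* K, Pure (φ : K ≃+* K) x (u * f) ρ)
    {g z : G} (hg : g ∈ normalizer (StdRank2.Hex.gen (φ : K ≃+* K) x (arc 1 7) : Set G)) (hgt : g * t * g⁻¹ = t * z)
    (hz : z ∈ StdRank2.Hex.gen (φ : K ≃+* K) x {4}) (hz1 : z ≠ 1) :
    ∃ V : ZMod 12 → Subgroup (XQ (AA (φ : K ≃+* K) x) t),
      Grown H.tX (hexX h H).H (XX (φ : K ≃+* K) (xX (AA (φ : K ≃+* K) x) t x))
        (nn (xX (AA (φ : K ≃+* K) x) t x)) V ∧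
      HexEight.Def.Gr (φ : K ≃+* K) (xX (AA (φ : K ≃+* K) x) t x) H.tX V ∧
      ((∃ y1 y2, HexEight.Main.Split (φ : K ≃+* K) (xX (AA (φ : K ≃+* K) x) t x) H.tX V y1 y2) ∨
        ((∃ (gr : HexEight.Def.Gr (φ : K ≃+* K) (xX (AA (φ : K ≃+* K) x) t x) H.tX V)
          (z : ZMod 12 → K → XQ (AA (φ : K ≃+* K) x) t)
          (Lb : HexEight.Lab.Lab (φ : K ≃+* K) (xX (AA (φ : K ≃+* K) x) t x) H.tX V z) (β : F) (c : K),
          HexEight.SplitA.QR hφ gr Lb β c ∧ ¬ ∃ c0 : F, c0 * c0 + c0 = β) ∧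
        ∃ S : Subgroup G, IsSyl S L ∧ t ∉ L ∧ S ≤ NO (AA (φ : K ≃+* K) x) t ∧
          im (AA (φ : K ≃+* K) x) t S = UU V 1 ∧ Nonempty (S ≃* UU V 1) ∧
          IsSyl (im (AA (φ : K ≃+* K) x) t T ⊔ UU V 1) ⊤)) := by
  obtain ⟨V, W⟩ := grownX h H hω h0 h1 hg hgt hz hz1
  have gr := grX h H W
  refine ⟨V, W, gr, ?_⟩
  rcases HexEight.Main.split_or_qr hφ hδ gr with hs | ⟨z, Lb, β, c, hQ, hno⟩
  · exact Or.inl hs
  · exact Or.inr ⟨⟨gr, z, Lb, β, c, hQ, hno⟩, field_end C h H hω h0 h1 hU hp W hQ hno⟩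

end Cfsg.Agent.HexToX
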