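import Cfsg.Agent.HexToX.GrownX
import Cfsg.Agent.WreathFusion.HexPure
import Cfsg.Agent.StdEven.EndLift
import Cfsg.Agent.TriTwo.InL

/-!
# S1778, types `G2(q)` and `3D4(q)`, `q ≥ 4`: the end of the field case in `G`

`T` is adapted to the frame `x` in `G` (`T = U · (pure elements)`).

* `out_X` : `im T` is adapted to the frame in `X`;
* `U_le_X` : `U_X ≤ im T`;
* `field_end` : a Sylow 2-subgroup of `L` is isomorphic to `UU V 1`, and `t ∉ L`.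
-/

set_option autoImplicit false
set_option linter.unusedSectionVars false

namespace Cfsg.Agent.HexToX

open Subgroup Cfsg.Agent.StdRank2.Hex Cfsg.Agent.SplitTwo Cfsg.Agent.StdEven.Syl
open Cfsg.Agent.StdEven.CoreQuot Cfsg.Agent.StdEven.Loc Cfsg.Agent.StdL2.Setup
open Cfsg.Agent.StdRank2.Hex.HexTwo
open Cfsg.Agent.HexGrow.Defs (UU Grown)
open Cfsg.Agent.HexGrow.OfHexTwo (XX)
open Cfsg.Agent.WreathFusion.HexPure (Pure ok_aut)

section Adapted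

variable {E : Type*} [Field E] {σ : E ≃+* E} {G : Type*} [Group G] {x : ZMod 12 → E → G}

variable [Finite E] [Finite G] {t : G} {T : Subgroup G} (h : HexTwo σ x) (H : Hyp (AA σ x) t T)
include h H

theorem xX_eq' {k : ZMod 12} {a : E} (ha : Ok σ k a) :
    xX (AA σ x) t x k a = pr (AA σ x) t ⟨x k a, H.A_le (x_mem_AA ha)⟩ := xX_eq (H.A_le (x_mem_AA ha))

/-- the image of a pure element is pure -/
theorem pure_X {p : G} (hp : p ∈ NO (AA σ x) t) {ρ : E ≃+* E} (hpp : Pure σ x p ρ) :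
    Pure σ (xX (AA σ x) t x) (pr (AA σ x) t ⟨p, hp⟩) ρ := by
  intro k a ha
  rw [xX_eq' h H ha, xX_eq' h H (ok_aut ha), ← map_inv, ← map_mul, ← map_mul]
  congr 1
  exact Subtype.ext (hpp k a ha)

/-- `U_X ≤ im T` -/
theorem U_le_X (hU : UU (XX σ x) 1 ≤ T) : UU (XX σ (xX (AA σ x) t x)) 1 ≤ im (AA σ x) t T := by
  rw [HexGrow.OfHexTwo.UU_eq, ← im_gen h H, ← HexGrow.OfHexTwo.UU_eq]
  exact im_mono hU

/-- `im T` is adapted -/
theorem out_X (hU : UU (XX σ x) 1 ≤ T) (hp : ∀ f ∈ T, ∃ u ∈ UU (XX σ x) 1, ∃ ρ : E ≃+* E, Pure σ x (u * f) ρ) :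
    ∀ y ∈ im (AA σ x) t T, ∃ u ∈ UU (XX σ (xX (AA σ x) t x)) 1, ∃ ρ : E ≃+* E,
      Pure σ (xX (AA σ x) t x) (u * y) ρ := by
  intro y hy
  obtain ⟨n, hn, rfl⟩ := mem_im.mp hy
  obtain ⟨u, hu, ρ, hρ⟩ := hp _ hn
  have huT := hU hu
  refine ⟨pr (AA σ x) t ⟨u, H.T_le huT⟩, ?_, ρ, ?_⟩
  · rw [HexGrow.OfHexTwo.UU_eq, ← im_gen h H, ← HexGrow.OfHexTwo.UU_eq]
    exact pr_mem_im hu
  · rw [← map_mul]
    exact pure_X h H (mul_mem (H.T_le huT) n.2) hρ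

end Adapted

section Field

variable {F K : Type*} [Field F] [Field K] [Finite K] [Algebra F K] {φ : K ≃ₐ[F] K}
  {hφ : Cfsg.Agent.Hex.Defs.CubicPair φ} {G : Type*} [Group G] [Finite G] {x : ZMod 12 → K → G}
  {L : Subgroup G} {t : G} {T : Subgroup G} (C : Conf L (AA (φ : K ≃+* K) x) t)
  (h : HexTwo (φ : K ≃+* K) x) (H : Hyp (AA (φ : K ≃+* K) x) t T) {ω : K} (hω : (φ : K ≃+* K) ω = ω) (h0 : ω ≠ 0)
  (h1 : ω ≠ 1)
include C h H hω h0 h1

/-- the image of `L` is normal -/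
theorem normal_im (hL : L.Normal) : (im (AA (φ : K ≃+* K) x) t L).Normal := by
  refine ⟨fun y hy g => ?_⟩
  obtain ⟨n, hn, rfl⟩ := mem_im.mp hy
  obtain ⟨m, rfl⟩ := pr_surjective _ _ g
  rw [← map_inv, ← map_mul, ← map_mul]
  exact pr_mem_im (hL.conj_mem _ hn _)

/-- **The field case.** -/
theorem field_end (hU : UU (XX (φ : K ≃+* K) x) 1 ≤ T)
    (hp : ∀ f ∈ T, ∃ u ∈ UU (XX (φ : K ≃+* K) x) 1, ∃ ρ : K ≃+* K, Pure (φ : K ≃+* K) x (u * f) ρ)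
    {V : ZMod 12 → Subgroup (XQ (AA (φ : K ≃+* K) x) t)}
    (W : Grown H.tX (hexX h H).H (XX (φ : K ≃+* K) (xX (AA (φ : K ≃+* K) x) t x))
      (nn (xX (AA (φ : K ≃+* K) x) t x)) V)
    {z : ZMod 12 → K → XQ (AA (φ : K ≃+* K) x) t}
    {g : HexEight.Def.Gr (φ : K ≃+* K) (xX (AA (φ : K ≃+* K) x) t x) H.tX V}
    {Lb : HexEight.Lab.Lab (φ : K ≃+* K) (xX (AA (φ : K ≃+* K) x) t x) H.tX V z} {β : F} {c : K}
    (hQ : HexEight.SplitA.QR hφ g Lb β c) (hno : ¬ ∃ c0 : F, c0 * c0 + c0 = β) :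
    ∃ S : Subgroup G, IsSyl S L ∧ t ∉ L ∧ S ≤ NO (AA (φ : K ≃+* K) x) t ∧
      im (AA (φ : K ≃+* K) x) t S = UU V 1 ∧ Nonempty (S ≃* UU V 1) ∧
      IsSyl (im (AA (φ : K ≃+* K) x) t T ⊔ UU V 1) ⊤ := by
  have En := envX h H hω h0 h1
  have hsyl := H.syl_im
  have TC : ∀ y ∈ im (AA (φ : K ≃+* K) x) t T, y * H.tX = H.tX * y := fun y hy => by
    have := hsyl.le hy
    rwa [mem_centralizer_singleton_iff] at this
  have e := WreathFusion.HexPure.end_field (hexX h H) En W hQ hno (T := im (AA (φ : K ≃+* K) x) t T)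
    (pr_mem_im H.isT.mem) hsyl.two TC
    (fun Q hQ2 hQc hle => hsyl.max Q hQ2 (fun y hy => by
      rw [mem_centralizer_singleton_iff]; exact hQc y hy) hle)
    (U_le_X h H hU) (fun y hy hy' => cenX h H hy hy') (out_X h H hU hp)
  refine StdEven.EndLift.main C H e ?_
  refine TriTwo.InL.UU_le (hexX h H) ⟨ω, h0, h1⟩ (fun k a ha => (tX_comm h H ha).symm) W
    (fun r y => (hexX h H).mem_gen_singleton) (normal_im C h H hω h0 h1 C.normal) ?_ 1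
  rw [← im_AA h H]
  exact im_mono C.le

end Field

end Cfsg.Agent.HexToX
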