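import Cfsg.Agent.HexToX.ToX
import Cfsg.Agent.HexGrow.OfAut
import Cfsg.Agent.HexGrow.Grow

/-!
# S1778, types `G2(q)` and `3D4(q)`, `q ≥ 4`: the growth in `X = N_G(O) / O` from the mover in `G`
-/

set_option autoImplicit false
set_option linter.unusedSectionVars false

namespace Cfsg.Agent.HexToX

open Subgroup Cfsg.Agent.StdRank2.Hex Cfsg.Agent.SplitTwo
open Cfsg.Agent.StdEven.CoreQuot
open Cfsg.Agent.StdRank2.Hex.HexTwo
open Cfsg.Agent.HexGrow.OfHexTwo (XX CT)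
open Cfsg.Agent.HexGrow.OfAut (Inv)

variable {E : Type*} [Field E] {σ : E ≃+* E} {G : Type*} [Group G] {x : ZMod 12 → E → G}

/-- **The growth from the facts on `C(t)` and a mover** (in any finite group). -/
theorem grown_of_mover [Finite E] [Finite G] (h : HexTwo σ x) {ω : E} (hω : σ ω = ω) (h0 : ω ≠ 0) (h1 : ω ≠ 1) {t : G}
    (I : Inv σ x t) {n₀ z₁ : G} (ht : n₀ * t * n₀⁻¹ = t * z₁) (hz : z₁ ∈ StdRank2.Hex.gen σ x {4}) (hz1 : z₁ ≠ 1)
    (hP : ∀ a ∈ StdRank2.Hex.gen σ x (arc 1 7), n₀ * a * n₀⁻¹ ∈ StdRank2.Hex.gen σ x (arc 1 7)) :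
    ∃ V, HexGrow.Defs.Grown t h.H (XX σ x) (nn x) V := by
  have e := HexGrow.OfAut.Inv.env I h hω h0 h1
  have L := HexGrow.TwoEnd.long_hex h (X := XX σ x) (fun r y => h.mem_gen_singleton) hω h0 h1 e ht hz hz1 hP
  obtain ⟨V, -, hV⟩ := HexGrow.Grow.grown e L
  exact ⟨V, hV⟩

section

variable [Finite E] [Finite G] {t : G} {T : Subgroup G} (h : HexTwo σ x) (H : Hyp (AA σ x) t T)
include h H

/-- The facts on `t̄` in `X`. -/
theorem invX : Inv σ (xX (AA σ x) t x) H.tX where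
  tt := H.tX_sq
  tA := fun v hv => H.im_A_comm (by rw [im_AA h H]; exact hv)
  tnot := tX_not_mem h H
  nor := fun c hc v hv => normX h H hc hv
  cen := fun c hc hv => cenX h H hc fun k a ha => hv _ (x_mem_AA ha)

/-- The environment in `X`. -/
theorem envX {ω : E} (hω : σ ω = ω) (h0 : ω ≠ 0) (h1 : ω ≠ 1) :
    HexGrow.Defs.Env H.tX (hexX h H).H (XX σ (xX (AA σ x) t x)) (nn (xX (AA σ x) t x)) :=
  HexGrow.OfAut.Inv.env (invX h H) (hexX h H) hω h0 h1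

/-- **The growth in `X`.** -/
theorem grownX {ω : E} (hω : σ ω = ω) (h0 : ω ≠ 0) (h1 : ω ≠ 1) {g z : G}
    (hg : g ∈ normalizer (StdRank2.Hex.gen σ x (arc 1 7) : Set G)) (hgt : g * t * g⁻¹ = t * z)
    (hz : z ∈ StdRank2.Hex.gen σ x {4}) (hz1 : z ≠ 1) :
    ∃ V, HexGrow.Defs.Grown H.tX (hexX h H).H (XX σ (xX (AA σ x) t x)) (nn (xX (AA σ x) t x)) V := by
  obtain ⟨n₀, z₁, e1, e2, e3, e4⟩ := exists_moverX h H hω h0 h1 hg hgt hz hz1
  exact grown_of_mover (hexX h H) hω h0 h1 (invX h H) e1 e2 e3 e4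

end

end Cfsg.Agent.HexToX
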