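import Cfsg.Agent.HexStart.HexPure
import Cfsg.Agent.HexStart.HexCentShort
import Cfsg.Agent.HexStart.HexShortF
import Cfsg.Agent.HexOut.Cfg
import Cfsg.Agent.WreathFusion.HexPure
import Cfsg.Agent.StdRank2.HexAdapt
import Cfsg.Agent.StdSz.FromStd

/-!
# One factor of the wreath configuration: the facts `HexOut.Side`

For a hexagonal system `z` and a group `Y` of elements acting as field automorphisms.
-/

set_option autoImplicit false
set_option linter.unusedSectionVars false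

namespace Cfsg.Agent.HexToX.SideFacts

open Subgroup Cfsg.Agent.SplitTwo Cfsg.Agent.StdRank2.Hex Cfsg.Agent.StdRank2.Hex.HexTwo Cfsg.Agent.StdEven.Syl
open Cfsg.Agent.WreathFusion.HexPure (isCyclic_aut aut_comm ok_aut)
open Cfsg.Agent.HexStart

local notation "Pu" => Cfsg.Agent.WreathFusion.HexPure.Pure

variable {E : Type*} [Field E] [Finite E] {σ : E ≃+* E} {G : Type*} [Group G] [Finite G] {z : ZMod 12 → E → G}
  (h : HexTwo σ z)

include h

/-- `U` is a Sylow 2-subgroup of `A`. -/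
theorem isSyl_U : IsSyl (UU σ z) (AA σ z) := by
  obtain ⟨S, hS, hU⟩ := exists_isSyl (N := AA σ z) h.isPGroup_U (gen_le_AA _)
  obtain ⟨p, hp, h1⟩ := h.sylow_conj (S := AA σ z) (gen_le_AA _) le_rfl hS.two hS.le
  have h2 : Nat.card S ≤ Nat.card (UU σ z) := by
    refine Nat.card_le_card_of_injective (fun s : S => (⟨p * s * p⁻¹, h1 s s.2⟩ : UU σ z)) fun a b e => ?_
    have e1 : p * (a : G) * p⁻¹ = p * (b : G) * p⁻¹ := congrArg Subtype.val e
    exact Subtype.ext (mul_left_cancel (mul_right_cancel e1))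
  have h3 : UU σ z = S := Subgroup.eq_of_le_of_card_ge hU h2
  rw [h3]
  exact hS

/-- 2-elements of `U H` lie in `U` -/
theorem two_UH {u s : G} (hu : u ∈ UU σ z) (hs : s ∈ h.H) {n : ℕ} (hn : (u * s) ^ 2 ^ n = 1) : s = 1 := by
  have key : ∀ m : ℕ, ∃ v ∈ UU σ z, (u * s) ^ m = v * s ^ m := by
    intro m
    induction m with
    | zero => exact ⟨1, one_mem _, by rw [pow_zero, pow_zero, one_mul]⟩
    | succ m ih =>
      obtain ⟨v, hv, e⟩ := ih
      refine ⟨v * (s ^ m * u * (s ^ m)⁻¹), mul_mem hv (h.H_conj_gen (pow_mem hs m) _ hu), ?_⟩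
      rw [pow_succ, e, pow_succ]
      group
  obtain ⟨v, hv, e⟩ := key (2 ^ n)
  rw [hn] at e
  have h1 : s ^ 2 ^ n ∈ UU σ z := by
    rw [eq_inv_of_mul_eq_one_right e.symm]
    exact inv_mem hv
  obtain ⟨m, hm⟩ := h.isPGroup_U ⟨_, h1⟩
  have hm' : (s ^ 2 ^ n) ^ 2 ^ m = 1 := congrArg Subtype.val hm
  rw [← pow_mul, ← pow_add] at hm'
  exact h.H_two hs hm'

/-- a pure element of `A` is trivial -/
theorem eq_one_of_pure {a : G} (ha : a ∈ AA σ z) {ρ : E ≃+* E} (hp : Pu σ z a ρ) : a = 1 := by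
  have hU : ∀ v ∈ UU σ z, a * v * a⁻¹ ∈ UU σ z := fun v hv => hp.mem_gen _ hv
  obtain ⟨u, hu, s, hs, rfl⟩ := h.mem_normalizer_U ha hU
  have hf : Fld σ z (u * s) ρ := hp
  have c1 := hf.comm_nn 1
  have c4 := hf.comm_nn 4
  have e1 : nn z 4 * (nn z 1 * (u * s) * (nn z 1)⁻¹) * (nn z 4)⁻¹ = u * s := by
    rw [← c1, mul_inv_cancel_right, ← c4, mul_inv_cancel_right]
  have h2 := h.nn_conj_gen 1 (S := arc 1 6) (T := arc 2 6) (by
    intro l hl
    rw [mem_arc] at hl ⊢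
    revert hl; revert l; decide) hu
  have h3 := h.nn_conj_gen 4 (S := arc 2 6) (T := arc (1 + 6) 6) (by
    intro l hl
    rw [mem_arc] at hl ⊢
    revert hl; revert l; decide) h2
  have h4 := h.nn_conj_H 4 (h.nn_conj_H 1 hs)
  set u' := nn z 4 * (nn z 1 * u * (nn z 1)⁻¹) * (nn z 4)⁻¹ with hu'
  set s' := nn z 4 * (nn z 1 * s * (nn z 1)⁻¹) * (nn z 4)⁻¹ with hs'
  have e2 : u' * s' = u * s := by
    rw [← e1, hu', hs']; group
  have e3 : u' = u * (s * s'⁻¹) := by
    calc u' = u' * s' * s'⁻¹ := by group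
      _ = _ := by rw [e2]; group
  -- `u'` is a 2-element
  have h5 : ∃ n : ℕ, u' ^ 2 ^ n = 1 := by
    obtain ⟨n, hn⟩ := h.isPGroup_U ⟨u, hu⟩
    have hn' : u ^ 2 ^ n = 1 := congrArg Subtype.val hn
    refine ⟨n, ?_⟩
    have e4 : u' = (nn z 4 * nn z 1) * u * (nn z 4 * nn z 1)⁻¹ := by rw [hu']; group
    rw [e4, conj_pow, hn', mul_one, mul_inv_cancel]
  obtain ⟨n, hn⟩ := h5
  rw [e3] at hn
  have h6 := two_UH h hu (mul_mem hs (inv_mem h4)) hn
  rw [h6, mul_one] at e3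
  rw [e3] at h3
  have hu1 : u = 1 := h.opp_one hu h3
  subst hu1
  rw [one_mul] at hp ⊢
  refine center_eq_one h (h.H_le_AA hs) fun k a hka => ?_
  obtain ⟨m, hm, hm', ham⟩ := h.H_diag hs k
  have key : ∀ a, Ok σ k a → ρ a = m * a := by
    intro a hka
    have h1 := hp k a hka
    rw [ham a hka] at h1
    exact ((h.x_inj (hm'.mul hka) (ok_aut hka)).1 h1).symm
  have hm1 : m = 1 := by
    have := key 1 (ok_one σ k)
    rw [map_one, mul_one] at this
    exact this.symm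
  rw [ham a hka, hm1, one_mul]

/-! ### Fixed points of a field automorphism -/

omit [Finite E] [Finite G] in
/-- the fixed points of an automorphism of order 2 with an element of trace 1 -/
theorem card_fix_sq {τ : E ≃+* E} (hτ : ∀ a, τ (σ a) = σ (τ a)) (h2 : ∀ a, τ (τ a) = a) {b : E} (hb : σ b = b)
    (hb1 : b + τ b = 1) (k : ZMod 12) :
    Nat.card {a : E // Ok σ k a ∧ τ a = a} * Nat.card {a : E // Ok σ k a ∧ τ a = a} = Nat.card {a : E // Ok σ k a} := by
  have hτb : τ b = b + 1 := by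
    have h3 : τ b = b + (b + τ b) := by rw [← add_assoc, h.add_self, zero_add]
    rw [h3, hb1]
  rw [← Nat.card_prod]
  refine Nat.card_congr
    { toFun := fun p => ⟨p.2.1 + b * p.1.1, p.2.2.1.add ((ok_of_fix k hb).mul p.1.2.1)⟩
      invFun := fun a => (⟨a.1 + τ a.1, a.2.add (ok_map hτ a.2), by rw [map_add, h2, add_comm]⟩,
        ⟨a.1 + b * (a.1 + τ a.1), a.2.add ((ok_of_fix k hb).mul (a.2.add (ok_map hτ a.2))), by
          rw [map_add, map_mul, map_add, h2, hτb]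
          have e1 : τ a.1 + (b + 1) * (τ a.1 + a.1) = a.1 + b * (a.1 + τ a.1) + (τ a.1 + τ a.1) := by ring
          rw [e1, h.add_self, add_zero]⟩)
      left_inv := ?_
      right_inv := ?_ }
  · rintro ⟨⟨c, hc, hc1⟩, ⟨a, ha, ha1⟩⟩
    have e1 : a + b * c + τ (a + b * c) = c := by
      rw [map_add, map_mul, ha1, hc1, hτb]
      have e2 : a + b * c + (a + (b + 1) * c) = (a + a) + (b * c + b * c) + c := by ring
      rw [e2, h.add_self, h.add_self, zero_add, zero_add]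
    refine Prod.ext (Subtype.ext e1) (Subtype.ext ?_)
    change a + b * c + b * (a + b * c + τ (a + b * c)) = a
    rw [e1]
    have e2 : a + b * c + b * c = a + (b * c + b * c) := by ring
    rw [e2, h.add_self, add_zero]
  · rintro ⟨a, ha⟩
    refine Subtype.ext ?_
    change a + b * (a + τ a) + b * (a + τ a) = a
    have e2 : a + b * (a + τ a) + b * (a + τ a) = a + (b * (a + τ a) + b * (a + τ a)) := by ring
    rw [e2, h.add_self, add_zero]

/-- `C_U(y)` for a pure `y` -/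
theorem card_cent_arc {y : G} {τ : E ≃+* E} (hp : Pu σ z y τ)
    (hk : ∀ k, Nat.card {a : E // Ok σ k a ∧ τ a = a} * Nat.card {a : E // Ok σ k a ∧ τ a = a} =
      Nat.card {a : E // Ok σ k a}) (n : ℕ) (hn : n ≤ 6) : ∀ k : ZMod 12,
    Nat.card ↥(StdRank2.Hex.gen σ z (arc k n) ⊓ centralizer ({y} : Set G)) *
      Nat.card ↥(StdRank2.Hex.gen σ z (arc k n) ⊓ centralizer ({y} : Set G)) =
      Nat.card (StdRank2.Hex.gen σ z (arc k n)) := by
  induction n with
  | zero =>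
    intro k
    rw [gen_arc_zero, bot_inf_eq, Subgroup.card_bot]
  | succ n ih =>
    intro k
    have hn5 : n ≤ 5 := by omega
    have hcent : ∀ {g : G}, g ∈ centralizer ({y} : Set G) ↔ y * g * y⁻¹ = g := by
      intro g
      rw [mem_centralizer_singleton_iff, mul_inv_eq_iff_eq_mul]
      exact eq_comm
    have e : {a : E // Ok σ k a ∧ τ a = a} × ↥(StdRank2.Hex.gen σ z (arc (k + 1) n) ⊓ centralizer ({y} : Set G)) ≃
        ↥(StdRank2.Hex.gen σ z (arc k (n + 1)) ⊓ centralizer ({y} : Set G)) :=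
      Equiv.ofBijective (fun p => ⟨z k p.1.1 * p.2.1, mem_inf.2 ⟨(h.mem_gen_first hn5).2
        ⟨_, p.1.2.1, _, (mem_inf.1 p.2.2).1, rfl⟩, hcent.2 (by
          have e1 := hp k p.1.1 p.1.2.1
          have e2 := hcent.1 (mem_inf.1 p.2.2).2
          calc y * (z k p.1.1 * p.2.1) * y⁻¹ = (y * z k p.1.1 * y⁻¹) * (y * p.2.1 * y⁻¹) := by group
            _ = _ := by rw [e1, e2, p.1.2.2])⟩⟩) (by
        constructor
        · rintro ⟨⟨a, ha, _⟩, ⟨v, hv⟩⟩ ⟨⟨a', ha', _⟩, ⟨v', hv'⟩⟩ e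
          have := h.uniq_first hn5 ha ha' (mem_inf.1 hv).1 (mem_inf.1 hv').1 (congrArg Subtype.val e)
          rw [Prod.mk.injEq, Subtype.mk.injEq, Subtype.mk.injEq]
          exact this
        · rintro ⟨g, hg⟩
          obtain ⟨hg1, hg2⟩ := mem_inf.1 hg
          obtain ⟨a, ha, v, hv, rfl⟩ := (h.mem_gen_first hn5).1 hg1
          have e1 := hcent.1 hg2
          have e2 : y * (z k a * v) * y⁻¹ = z k (τ a) * (y * v * y⁻¹) := by
            rw [← hp k a ha]; group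
          rw [e2] at e1
          obtain ⟨e3, e4⟩ := h.uniq_first hn5 (ok_aut ha) ha (hp.mem_gen _ hv) hv e1
          exact ⟨⟨⟨a, ha, e3⟩, ⟨v, mem_inf.2 ⟨hv, hcent.2 e4⟩⟩⟩, rfl⟩)
    rw [← Nat.card_congr e, Nat.card_prod, h.card_arc_succ k hn5, ← hk k, ← ih (by omega) (k + 1)]
    ring

/-- **`|C_U(y)|² = |U|`** for an involution `y` acting as a non-trivial field automorphism. -/
theorem card_cent {y : G} {τ : E ≃+* E} (hp : Pu σ z y τ) (hyy : y * y = 1) (hne : ∃ a, τ a ≠ a) :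
    Nat.card ↥(UU σ z ⊓ centralizer ({y} : Set G)) * Nat.card ↥(UU σ z ⊓ centralizer ({y} : Set G)) =
      Nat.card (UU σ z) := by
  obtain ⟨-, h2, ⟨b, hb, hb1⟩, -⟩ := pure_of_sq h (u := 1) (one_mem _) (f := y) (τ := τ) hp
    (fun a => aut_comm τ σ a) (by rw [one_mul, hyy]) hne
  exact card_cent_arc h hp (fun k => card_fix_sq h (fun a => aut_comm τ σ a) h2 hb hb1 k) 6 le_rfl 1

/-- the conjugates of `z 3 1` under `U` -/
theorem card_cent_short : Nat.card (UU σ z) ≤ Nat.card {a : E // σ a = a} ^ 2 *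
    Nat.card ↥(UU σ z ⊓ centralizer ({z 3 1} : Set G)) := by
  classical
  have hex : ∀ u : UU σ z, ∃ p : {a : E // σ a = a} × {a : E // σ a = a},
      (u : G) * z 3 1 * (u : G)⁻¹ = z 2 p.1.1 * z 3 1 * z 4 p.2.1 := by
    intro u
    obtain ⟨b, d, hb, hd, e⟩ := conj_x3 h u.2 1
    exact ⟨(⟨b, hb⟩, ⟨d, hd⟩), e⟩
  choose f hf using hex
  have h1 := HexOut.card_le_mul_of_fibre f (Nat.card ↥(UU σ z ⊓ centralizer ({z 3 1} : Set G))) (by
    intro b
    by_cases hne : Nonempty {a // f a = b}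
    · obtain ⟨⟨u0, hu0⟩⟩ := hne
      refine Nat.card_le_card_of_injective (fun u : {a // f a = b} => (⟨(u0 : G)⁻¹ * (u.1 : G), mem_inf.2
        ⟨mul_mem (inv_mem u0.2) u.1.2, ?_⟩⟩ : ↥(UU σ z ⊓ centralizer ({z 3 1} : Set G)))) fun u v e => ?_
      · rw [mem_centralizer_singleton_iff]
        have e1 := hf u0
        have e2 := hf u.1
        rw [hu0, ← u.2, ← e2] at e1
        calc (u0 : G)⁻¹ * (u.1 : G) * z 3 1 = (u0 : G)⁻¹ * ((u.1 : G) * z 3 1 * (u.1 : G)⁻¹) * (u.1 : G) := by group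
          _ = (u0 : G)⁻¹ * ((u0 : G) * z 3 1 * (u0 : G)⁻¹) * (u.1 : G) := by rw [e1]
          _ = _ := by group
      · have e1 : (u0 : G)⁻¹ * (u.1 : G) = (u0 : G)⁻¹ * (v.1 : G) := congrArg Subtype.val e
        exact Subtype.ext (Subtype.ext (mul_left_cancel e1))
    · rw [Nat.card_eq_zero.2 (Or.inl (not_nonempty_iff.1 hne))]
      exact Nat.zero_le _)
  rw [Nat.card_prod] at h1
  calc Nat.card (UU σ z) ≤ _ := h1
    _ = _ := by ring

/-- **the involutions of `A`, in normal form** -/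
theorem cls_one {v : G} (hv : v ∈ AA σ z) (hvv : v * v = 1) (hv1 : v ≠ 1) :
    ∃ a ∈ AA σ z, a * v * a⁻¹ = z 4 1 ∨ a * v * a⁻¹ = z 3 1 := by
  obtain ⟨c, hc, h1 | h1⟩ := HexStart.cls h hv hvv hv1
  · obtain ⟨b, hb, e⟩ := h.mem_gen_singleton.1 h1
    have hb0 : b ≠ 0 := by
      rintro rfl
      rw [h.x_zero] at e
      apply hv1
      have : v = c⁻¹ * (c * v * c⁻¹) * c := by group
      rw [this, e]; group
    obtain ⟨s, hs0, hs, e2⟩ := h.exists_partner 4 (inv_ne_zero hb0) hb.inv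
    refine ⟨hh z (4 - 2) s * c, mul_mem (hh_mem_AA _ hs) hc, Or.inl ?_⟩
    have e3 : hh z (4 - 2) s * c * v * (hh z (4 - 2) s * c)⁻¹ =
        hh z (4 - 2) s * (c * v * c⁻¹) * (hh z (4 - 2) s)⁻¹ := by group
    rw [e3, e, h.tor (4 - 2) 4 hs0 hs hb, e2, inv_mul_cancel₀ hb0]
  · exact ⟨c, hc, Or.inr h1⟩

omit h in
/-- the only non-trivial involution of `Aut(E)` -/
theorem aut_unique {τ ρ : E ≃+* E} (h1 : ∀ a, τ (τ a) = a) (h2 : ∀ a, ρ (ρ a) = a) (hτ : ∃ a, τ a ≠ a)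
    (hρ : ∃ a, ρ a ≠ a) : τ = ρ := by
  have hc := isCyclic_aut E
  have hf : Finite (E ≃+* E) := Finite.of_injective (fun e : E ≃+* E => (e : E → E)) DFunLike.coe_injective
  have hT : IsCyclic (⊤ : Subgroup (E ≃+* E)) := isCyclic_of_surjective Subgroup.topEquiv.symm.toMonoidHom
    Subgroup.topEquiv.symm.surjective
  refine StdSz.FromStd.involution_unique hT (mem_top τ) (mem_top ρ) (RingEquiv.ext h1) (RingEquiv.ext h2) ?_ ?_
  · rintro rfl
    obtain ⟨a, ha⟩ := hτ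
    exact ha rfl
  · rintro rfl
    obtain ⟨a, ha⟩ := hρ
    exact ha rfl

omit [Finite E] [Finite G] h in
theorem cn_of_pure {y : G} {τ : E ≃+* E} (hτ : Pu σ z y τ) (h1 : ∀ a, τ a = a) : HexOut.Cn y (AA σ z) := by
  have h2 : AA σ z ≤ centralizer ({y} : Set G) := gen_le fun k _ a ha => by
    rw [mem_centralizer_singleton_iff]
    have h2 := hτ k a ha
    rw [h1, mul_inv_eq_iff_eq_mul] at h2
    exact h2.symm
  exact fun a ha => (mem_centralizer_singleton_iff.1 (h2 ha)).symm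

/-- an involution acting non-trivially -/
theorem data_of_not {y : G} {τ : E ≃+* E} (hτ : Pu σ z y τ) (hyy : y * y = 1) (hny : ¬ HexOut.Cn y (AA σ z)) :
    (∀ a, τ (τ a) = a) ∧ ∃ a, τ a ≠ a := by
  have hne : ∃ a, τ a ≠ a := by
    by_contra hcon
    push Not at hcon
    exact hny (cn_of_pure hτ hcon)
  obtain ⟨-, h2, -, -⟩ := pure_of_sq h (u := 1) (one_mem _) (f := y) (τ := τ) hτ
    (fun a => aut_comm τ σ a) (by rw [one_mul, hyy]) hne
  exact ⟨h2, hne⟩

/-- **The facts `Side`.** -/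
theorem side {Y : Subgroup G} (hY : ∀ y ∈ Y, ∃ τ, Pu σ z y τ) {q n₀ : ℕ} (hq : Nat.card {a : E // σ a = a} = q)
    (hn : n₀ * n₀ = Nat.card (UU σ z)) (hc : 2 * q ^ 2 < n₀) : HexOut.Side (AA σ z) (UU σ z) Y (q ^ 2) n₀ where
  syl := isSyl_U h
  nB y hy a ha := by
    obtain ⟨τ, hτ⟩ := hY y hy
    exact hτ.mem_gen _ ha
  nU y hy a ha := by
    obtain ⟨τ, hτ⟩ := hY y hy
    exact hτ.mem_gen _ ha
  inn y hy a ha hya := by
    obtain ⟨τ, hτ⟩ := hY y hy
    have h1 : Pu σ z a τ := fun k b hb => by rw [← hya _ (x_mem_AA hb)]; exact hτ k b hb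
    have h2 := eq_one_of_pure h ha h1
    rw [HexOut.cn_iff]
    intro b hb
    rw [hya b hb, h2, one_mul, inv_one, mul_one]
  cls v hv hvv := by
    have hq1 : 0 < q := by
      rw [← hq]
      have : Nonempty {a : E // σ a = a} := ⟨⟨0, map_zero σ⟩⟩
      exact Nat.card_pos
    have hcn : ∀ k, HexOut.Cn (z k 1) Y := fun k y hy => by
      obtain ⟨τ, hτ⟩ := hY y hy
      have h1 := hτ k 1 (ok_one σ k)
      rw [map_one, mul_inv_eq_iff_eq_mul] at h1
      exact h1.symm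
    by_cases hv1 : v = 1
    · subst hv1
      refine ⟨1, one_mem _, by rw [one_mul, inv_one, mul_one]; exact one_mem _, ?_, ?_⟩
      · intro y _; rw [one_mul, inv_one, mul_one, one_mul, mul_one]
      · have : UU σ z ⊓ centralizer ({1 * 1 * 1⁻¹} : Set G) = UU σ z := by
          refine inf_eq_left.2 fun u _ => ?_
          rw [mem_centralizer_singleton_iff]; group
        rw [this]
        exact Nat.le_mul_of_pos_left _ (by positivity)
    · obtain ⟨a, ha, e | e⟩ := cls_one h hv hvv hv1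
      · refine ⟨a, ha, by rw [e]; exact x_mem_gen (by rw [mem_arc]; decide) (ok_one σ 4), by rw [e]; exact hcn 4, ?_⟩
        have : UU σ z ⊓ centralizer ({a * v * a⁻¹} : Set G) = UU σ z := by
          rw [e]
          refine inf_eq_left.2 fun u hu => ?_
          rw [mem_centralizer_singleton_iff]
          exact X4_comm h (h.mem_gen_singleton.2 ⟨1, ok_one σ 4, rfl⟩) (gen_mono (arc_mono (by norm_num)) hu)
        rw [this]
        exact Nat.le_mul_of_pos_left _ (by positivity)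
      · refine ⟨a, ha, by rw [e]; exact x_mem_gen (by rw [mem_arc]; decide) (ok_one σ 3), by rw [e]; exact hcn 3, ?_⟩
        rw [e, ← hq]
        exact card_cent_short h
  out y hy hyy hny := by
    obtain ⟨τ, hτ⟩ := hY y hy
    obtain ⟨-, hne⟩ := data_of_not h hτ hyy hny
    have h1 := card_cent h hτ hyy hne
    refine ⟨?_, fun u hu huy => ?_⟩
    · rw [← hn] at h1
      exact Nat.mul_self_inj.1 h1
    · obtain ⟨-, -, -, v, hv, e⟩ := pure_of_sq h hu (f := y) (τ := τ) hτ (fun a => aut_comm τ σ a) huy hne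
      refine ⟨v⁻¹, inv_mem hv, ?_⟩
      calc u * y = v⁻¹ * (v * (u * y) * v⁻¹) * v⁻¹⁻¹ := by group
        _ = _ := by rw [e]
  uni y hy y' hy' hyy hyy' hny hny' := by
    obtain ⟨τ, hτ⟩ := hY y hy
    obtain ⟨ρ, hρ⟩ := hY y' hy'
    obtain ⟨h1, h2⟩ := data_of_not h hτ hyy hny
    obtain ⟨h3, h4⟩ := data_of_not h hρ hyy' hny'
    have e := aut_unique h1 h3 h2 h4
    subst e
    exact cn_of_pure (hτ.mul hρ) h1
  n0 := hn
  hc := hc

end Cfsg.Agent.HexToX.SideFacts
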