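import Cfsg.Agent.HexToX.SplitLift
import Cfsg.Agent.HexToX.SideFacts

/-!
# S1778, types `G2(q)` and `3D4(q)`, `q ≥ 4`, split case: the configuration `HexOut.Cfg`

`P` : a Sylow 2-subgroup of `N(A₁ A₂)` containing `t`, `U₁`, `U₂`; the frames are rescaled such that every element of
`P ∩ N(A₁) ∩ N(A₂)` is `u₁ u₂ y`, `y` acting on both factors as a field automorphism (`exists_ad`); `Ad.cfg`.
-/

set_option autoImplicit false
set_option linter.unusedSectionVars false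

namespace Cfsg.Agent.HexToX

open Cfsg Subgroup Cfsg.Agent.StdRank2.Hex Cfsg.Agent.SplitTwo Cfsg.Agent.StdEven.Syl
open Cfsg.Agent.StdEven.CoreQuot Cfsg.Agent.StdL2.Setup
open Cfsg.Agent.StdRank2.Hex.HexTwo
open Cfsg.Agent.WreathFusion.HexPair (IsPair)
open Cfsg.Agent.WreathFusion.HexPure (isCyclic_aut aut_comm ok_aut)
open Cfsg.Agent.HexOut (MM KK Wr Cfg Swaps Cn)

local notation "Pu" => Cfsg.Agent.WreathFusion.HexPure.Pure

section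

variable {E : Type*} [Field E] {σ : E ≃+* E} {G : Type*} [Group G]

/-- the groups of a system rescaled by a torus element -/
theorem gen_cj [Finite E] {z : ZMod 12 → E → G} (h : HexTwo σ z) {s : G} (hs : s ∈ h.H) (S : Set (ZMod 12)) :
    StdRank2.Hex.gen σ (cj s z) S = StdRank2.Hex.gen σ z S := by
  ext v
  rw [mem_gen_cj]
  constructor
  · intro hv
    have h1 := h.H_conj_gen hs S hv
    have e : s * (s⁻¹ * v * s) * s⁻¹ = v := by group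
    rwa [e] at h1
  · intro hv
    have h1 := h.H_conj_gen (inv_mem hs) S hv
    rwa [inv_inv] at h1

variable {x z1 z2 : ZMod 12 → E → G} {t : G} [Finite E] [Finite G]

/-- conjugates of the pair of systems -/
theorem Pr.cj (p : Pr σ x t z1 z2) (htt : t * t = 1) {s : G} (hs : s ∈ AA σ z1) :
    Pr σ (cj (s * (t * s * t⁻¹)) x) t (cj s z1) (cj (t * s * t⁻¹) z2) where
  pair := ⟨p.pair.h1.conj s, p.pair.h2.conj _, fun k l a b ha hb => by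
    have c1 : ∀ {a b : G}, a ∈ AA σ z1 → b ∈ AA σ z2 → a * b = b * a := p.comm
    exact c1 (mul_mem (mul_mem hs (x_mem_AA ha)) (inv_mem hs))
      (mul_mem (mul_mem (p.conj1 hs) (x_mem_AA hb)) (inv_mem (p.conj1 hs)))⟩
  t1 k a ha := by
    change t * (s * z1 k a * s⁻¹) * t⁻¹ = (t * s * t⁻¹) * z2 k a * (t * s * t⁻¹)⁻¹
    rw [← p.t1 k a ha]; group
  t2 k a ha := by
    have ti : t⁻¹ = t := inv_eq_of_mul_eq_one_right htt
    change t * ((t * s * t⁻¹) * z2 k a * (t * s * t⁻¹)⁻¹) * t⁻¹ = s * z1 k a * s⁻¹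
    have e : t * ((t * s * t⁻¹) * z2 k a * (t * s * t⁻¹)⁻¹) * t⁻¹ =
        (t * t) * s * (t⁻¹ * z2 k a * t) * s⁻¹ * (t * t)⁻¹ := by group
    have e2 : t⁻¹ * z2 k a * t = z1 k a := by
      have := p.t2 k a ha
      rw [ti] at this ⊢
      exact this
    rw [e, e2, htt]; group
  mul k a ha := by
    change (s * (t * s * t⁻¹)) * x k a * (s * (t * s * t⁻¹))⁻¹ =
      (s * z1 k a * s⁻¹) * ((t * s * t⁻¹) * z2 k a * (t * s * t⁻¹)⁻¹)
    have c1 : ∀ {a b : G}, a ∈ AA σ z1 → b ∈ AA σ z2 → a * b = b * a := p.comm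
    have hs2 := p.conj1 hs
    set s2 := t * s * t⁻¹
    rw [p.mul k a ha]
    have e1 := c1 (x_mem_AA (x := z1) ha) hs2
    have e2 : (s2 * z2 k a * s2⁻¹) * s⁻¹ = s⁻¹ * (s2 * z2 k a * s2⁻¹) :=
      (c1 (inv_mem hs) (mul_mem (mul_mem hs2 (x_mem_AA ha)) (inv_mem hs2))).symm
    calc s * s2 * (z1 k a * z2 k a) * (s * s2)⁻¹ = s * (s2 * z1 k a) * z2 k a * s2⁻¹ * s⁻¹ := by group
      _ = s * (z1 k a * s2) * z2 k a * s2⁻¹ * s⁻¹ := by rw [e1]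
      _ = s * z1 k a * ((s2 * z2 k a * s2⁻¹) * s⁻¹) := by group
      _ = s * z1 k a * (s⁻¹ * (s2 * z2 k a * s2⁻¹)) := by rw [e2]
      _ = _ := by group

/-- the adapted configuration -/
structure Ad (σ : E ≃+* E) (x : ZMod 12 → E → G) (t : G) (z1 z2 : ZMod 12 → E → G) (P : Subgroup G) : Prop where
  pr : Pr σ x t z1 z2
  hx : HexTwo σ x
  syl : IsSyl P (MM (AA σ z1) (AA σ z2))
  tP : t ∈ P
  U1P : UU σ z1 ≤ P
  U2P : UU σ z2 ≤ P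
  dec : ∀ f ∈ P, f ∈ KK (AA σ z1) (AA σ z2) → ∃ u1 ∈ UU σ z1, ∃ u2 ∈ UU σ z2, ∃ τ1 τ2 : E ≃+* E,
    Pu σ z1 (u1 * u2 * f) τ1 ∧ Pu σ z2 (u1 * u2 * f) τ2

/-- the pure elements of `P` -/
def YY (σ : E ≃+* E) (z1 z2 : ZMod 12 → E → G) (P : Subgroup G) : Subgroup G where
  carrier := {y | y ∈ P ∧ (∃ τ, Pu σ z1 y τ) ∧ ∃ τ, Pu σ z2 y τ}
  one_mem' := ⟨one_mem _, ⟨_, Cfsg.Agent.WreathFusion.HexPure.Pure.one⟩, ⟨_, Cfsg.Agent.WreathFusion.HexPure.Pure.one⟩⟩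
  mul_mem' := by
    rintro a b ⟨h1, ⟨τ, h2⟩, ⟨τ', h3⟩⟩ ⟨h4, ⟨ρ, h5⟩, ⟨ρ', h6⟩⟩
    exact ⟨mul_mem h1 h4, ⟨_, h2.mul h5⟩, ⟨_, h3.mul h6⟩⟩
  inv_mem' := by
    rintro a ⟨h1, ⟨τ, h2⟩, ⟨τ', h3⟩⟩
    exact ⟨inv_mem h1, ⟨_, h2.inv⟩, ⟨_, h3.inv⟩⟩

theorem mem_YY {P : Subgroup G} {y : G} :
    y ∈ YY σ z1 z2 P ↔ y ∈ P ∧ (∃ τ, Pu σ z1 y τ) ∧ ∃ τ, Pu σ z2 y τ := Iff.rfl

theorem isPGroup_sup {U V : Subgroup G} (hU : IsPGroup 2 U) (hV : IsPGroup 2 V) (hUV : U ≤ normalizer (V : Set G)) :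
    IsPGroup 2 ↥(U ⊔ V) := IsPGroup.to_sup_of_normal_right' hU hV hUV

/-- **Existence.** -/
theorem exists_ad (p : Pr σ x t z1 z2) (hx : HexTwo σ x) {L : Subgroup G} (C : Conf L (AA σ x) t) {ω : E}
    (hω : σ ω = ω) (h0 : ω ≠ 0) (h1 : ω ≠ 1) :
    ∃ (x' z1' z2' : ZMod 12 → E → G) (P : Subgroup G), Ad σ x' t z1' z2' P ∧ AA σ x' = AA σ x ∧ AA σ z1' = AA σ z1 ∧
      AA σ z2' = AA σ z2 := by
  have w := p.wr C hx hω h0 h1
  have htt := w.tt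
  -- the 2-group `U₁ U₂ ⟨t⟩`
  have hU12 : UU σ z1 ≤ normalizer ((UU σ z2 : Subgroup G) : Set G) := by
    intro u hu
    apply mem_normalizer_of_conj_le
    intro v hv
    have e := p.comm (gen_mono (Set.subset_univ _) hu) (gen_mono (Set.subset_univ _) hv)
    rw [e, mul_inv_cancel_right]
    exact hv
  have hU2 : IsPGroup 2 ↥(UU σ z1 ⊔ UU σ z2) := isPGroup_sup p.pair.h1.isPGroup_U p.pair.h2.isPGroup_U hU12
  have htn : zpowers t ≤ normalizer ((UU σ z1 ⊔ UU σ z2 : Subgroup G) : Set G) := by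
    rw [zpowers_le]
    apply mem_normalizer_of_conj_le
    have hle : UU σ z1 ⊔ UU σ z2 ≤ (UU σ z1 ⊔ UU σ z2).comap (MulAut.conj t).toMonoidHom :=
      sup_le (fun a ha => le_sup_right (a := UU σ z1) (p.conj1 ha)) (fun a ha => le_sup_left (b := UU σ z2) (p.symm.conj1 ha))
    exact fun v hv => hle hv
  have hS2 : IsPGroup 2 ↥(zpowers t ⊔ (UU σ z1 ⊔ UU σ z2)) :=
    isPGroup_sup (HexOut.isPGroup_zpowers_of_sq htt) hU2 htn
  have hDM : AA σ z1 ⊔ AA σ z2 ≤ MM (AA σ z1) (AA σ z2) := w.D_le_KK.trans HexOut.KK_le_MM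
  obtain ⟨P, hP, hSP⟩ := exists_isSyl (N := MM (AA σ z1) (AA σ z2)) hS2
    (sup_le (zpowers_le.2 w.t_MM) (sup_le ((gen_le_AA _).trans (le_sup_left.trans hDM))
      ((gen_le_AA _).trans (le_sup_right.trans hDM))))
  have htP : t ∈ P := hSP (le_sup_left (b := UU σ z1 ⊔ UU σ z2) (mem_zpowers t))
  have hU1P : UU σ z1 ≤ P := le_sup_left.trans (le_sup_right.trans hSP)
  have hU2P : UU σ z2 ≤ P := le_sup_right.trans (le_sup_right.trans hSP)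
  have hPA : P ⊓ AA σ z1 = UU σ z1 := (SideFacts.isSyl_U p.pair.h1).max _ (hP.two.to_le inf_le_left) inf_le_right
    (le_inf hU1P (gen_le_AA _))
  -- adapted coordinates on the first factor
  obtain ⟨s, hs, had⟩ := adapted (Γ := G) p.pair.h1 (HexStart.notTwo_of hω h0 h1) (T := P ⊓ KK (AA σ z1) (AA σ z2))
    (hP.two.to_le inf_le_left) (fun f hf v hv => (HexOut.keeps_of_mem (mem_inf.1 hf).2).1 v hv) (fun f hf v hv => by
      rw [← hPA] at hv ⊢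
      exact mem_inf.2 ⟨mul_mem (mul_mem (mem_inf.1 hf).1 (mem_inf.1 hv).1) (inv_mem (mem_inf.1 hf).1),
        (HexOut.keeps_of_mem (mem_inf.1 hf).2).1 v (mem_inf.1 hv).2⟩)
  have hsA : s ∈ AA σ z1 := p.pair.h1.H_le_AA hs
  have ht2 : ∀ {g : G} {S : Set (ZMod 12)}, g ∈ StdRank2.Hex.gen σ z2 S → t * g * t⁻¹ ∈ StdRank2.Hex.gen σ z1 S :=
    fun hg => p.symm.conj1 hg
  set s2 := t * s * t⁻¹ with hs2d
  have hs2 : s2 ∈ p.pair.h2.H := by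
    obtain ⟨a, b, ha, hb, hb', e⟩ := hs
    refine ⟨a, b, ha, hb, hb', ?_⟩
    have key : ∀ (k : ZMod 12) (c : E), Ok σ k c → t * hh z1 k c * t⁻¹ = hh z2 k c := by
      intro k c hc
      have e1 := p.t1 k c hc
      have e2 := p.t1 (k + 6) c⁻¹ (hc.inv.congr (val_add_6 k))
      have e3 := p.t1 k 1 (ok_one σ k)
      have e4 := p.t1 (k + 6) 1 (ok_one σ _)
      unfold hh nt nn
      rw [← e1, ← e2, ← e3, ← e4]
      group
    rw [hs2d, e]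
    have e1 : t * (hh z1 1 a * hh z1 6 b) * t⁻¹ = (t * hh z1 1 a * t⁻¹) * (t * hh z1 6 b * t⁻¹) := by group
    rw [e1, key 1 a (ok1 a), key 6 b (ok_of_fix _ hb')]
  have hsx : s * s2 ∈ AA σ x := p.diag_gen hsA
  have g1 := gen_cj p.pair.h1 hs
  have g2 := gen_cj p.pair.h2 hs2
  refine ⟨cj (s * s2) x, cj s z1, cj s2 z2, P, ⟨p.cj htt hsA, hx.conj _, ?_, htP, ?_, ?_, ?_⟩, ?_, g1 _, g2 _⟩
  · show IsSyl P (MM (StdRank2.Hex.gen σ (cj s z1) _) (StdRank2.Hex.gen σ (cj s2 z2) _))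
    rw [g1, g2]; exact hP
  · show StdRank2.Hex.gen σ (cj s z1) _ ≤ P
    rw [g1]; exact hU1P
  · show StdRank2.Hex.gen σ (cj s2 z2) _ ≤ P
    rw [g2]; exact hU2P
  · intro f hf hfK
    have hfK' : f ∈ KK (AA σ z1) (AA σ z2) := by
      have : KK (StdRank2.Hex.gen σ (cj s z1) Set.univ) (StdRank2.Hex.gen σ (cj s2 z2) Set.univ) =
        KK (AA σ z1) (AA σ z2) := by rw [g1, g2]; rfl
      rw [← this]; exact hfK
    obtain ⟨u1, hu1, τ1, -, e1⟩ := had f (mem_inf.2 ⟨hf, hfK'⟩)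
    have hf2 : t * f * t⁻¹ ∈ KK (AA σ z1) (AA σ z2) := w.KK_normal w.t_MM hfK'
    obtain ⟨u2, hu2, τ2, -, e2⟩ := had (t * f * t⁻¹) (mem_inf.2 ⟨mul_mem (mul_mem htP hf) (inv_mem htP), hf2⟩)
    have hu2' : t * u2 * t⁻¹ ∈ UU σ z2 := p.conj1 hu2
    refine ⟨u1, ?_, t * u2 * t⁻¹, ?_, τ1, τ2, ?_, ?_⟩
    · show u1 ∈ StdRank2.Hex.gen σ (cj s z1) _
      rw [g1]; exact hu1
    · show t * u2 * t⁻¹ ∈ StdRank2.Hex.gen σ (cj s2 z2) _
      rw [g2]; exact hu2'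
    · intro k a ha
      have m1 : cj s z1 k a ∈ AA σ z1 := mul_mem (mul_mem hsA (x_mem_AA ha)) (inv_mem hsA)
      have m2 := (HexOut.keeps_of_mem hfK').1 _ m1
      have c1 := p.comm m2 (gen_mono (Set.subset_univ _) hu2')
      have e3 : u1 * (t * u2 * t⁻¹) * f * cj s z1 k a * (u1 * (t * u2 * t⁻¹) * f)⁻¹ =
          u1 * ((t * u2 * t⁻¹) * (f * cj s z1 k a * f⁻¹)) * (t * u2 * t⁻¹)⁻¹ * u1⁻¹ := by group
      rw [e3, ← c1, ← e1 k a ha]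
      group
    · intro k a ha
      have e4 : ∀ c : E, Ok σ k c → cj s2 z2 k c = t * cj s z1 k c * t⁻¹ := by
        intro c hc
        change s2 * z2 k c * s2⁻¹ = t * (s * z1 k c * s⁻¹) * t⁻¹
        rw [← p.t1 k c hc, hs2d]; group
      have m1 : cj s2 z2 k (τ2 a) ∈ AA σ z2 := mul_mem (mul_mem (p.conj1 hsA) (x_mem_AA (ok_aut ha)))
        (inv_mem (p.conj1 hsA))
      have c1 := p.comm (gen_mono (Set.subset_univ _) hu1) m1
      have e5 : (t * u2 * t⁻¹) * f * cj s2 z2 k a * ((t * u2 * t⁻¹) * f)⁻¹ = cj s2 z2 k (τ2 a) := by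
        rw [e4 a ha, e4 (τ2 a) (ok_aut ha), ← e2 k a ha]
        have ti : t⁻¹ = t := inv_eq_of_mul_eq_one_right htt
        simp only [ti, mul_inv_rev, mul_assoc]
      have e3 : u1 * (t * u2 * t⁻¹) * f * cj s2 z2 k a * (u1 * (t * u2 * t⁻¹) * f)⁻¹ =
          u1 * ((t * u2 * t⁻¹) * f * cj s2 z2 k a * ((t * u2 * t⁻¹) * f)⁻¹) * u1⁻¹ := by group
      rw [e3, e5, c1, mul_inv_cancel_right]
  · ext v
    show v ∈ StdRank2.Hex.gen σ (cj (s * s2) x) Set.univ ↔ v ∈ StdRank2.Hex.gen σ x Set.univ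
    rw [mem_gen_cj]
    constructor
    · intro hv
      have e : v = (s * s2) * ((s * s2)⁻¹ * v * (s * s2)) * (s * s2)⁻¹ := by group
      rw [e]
      exact mul_mem (mul_mem hsx hv) (inv_mem hsx)
    · intro hv
      exact mul_mem (mul_mem (inv_mem hsx) hv) hsx

theorem card_UU (h : HexTwo σ x) (h' : HexTwo σ z1) : Nat.card (UU σ x) = Nat.card (UU σ z1) := by
  show Nat.card (StdRank2.Hex.gen σ x (arc 1 6)) = Nat.card (StdRank2.Hex.gen σ z1 (arc 1 6))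
  rw [h.card_U, h'.card_U]

namespace Ad

variable {P : Subgroup G} (a : Ad σ x t z1 z2 P)
include a

/-- **The configuration.** -/
theorem cfg {L T : Subgroup G} (C : Conf L (AA σ x) t) (H : Hyp (AA σ x) t T) {ω : E} (hω : σ ω = ω) (h0 : ω ≠ 0)
    (h1 : ω ≠ 1) {q n₀ : ℕ} (hq : Nat.card {a : E // σ a = a} = q)
    (hn : n₀ * n₀ = Nat.card (UU σ x)) (hc : 2 * q ^ 2 < n₀) :
    Cfg (AA σ x) (AA σ z1) (AA σ z2) t P (UU σ z1) (UU σ z2) (YY σ z1 z2 P) (q ^ 2) n₀ where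
  w := a.pr.wr C a.hx hω h0 h1
  cen y hy hyt hy2 := by
    obtain ⟨k, hk⟩ := hy2
    exact H.eq_of_two (mem_centralizer_iff.2 fun b hb => (hy b hb).symm) hyt hk
  syl := a.syl
  tP := a.tP
  YP _ hy := (mem_YY.1 hy).1
  YK y hy := by
    obtain ⟨-, ⟨τ, h2⟩, ⟨τ', h3⟩⟩ := mem_YY.1 hy
    exact HexOut.mem_KK.2 ⟨fun b hb => h2.mem_gen _ hb, fun b hb => h3.mem_gen _ hb⟩
  Yc y hy y' hy' := by
    obtain ⟨hyP, ⟨τ, h2⟩, ⟨τ', h3⟩⟩ := mem_YY.1 hy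
    obtain ⟨hyP', ⟨ρ, h4⟩, ⟨ρ', h5⟩⟩ := mem_YY.1 hy'
    have w := a.pr.wr C a.hx hω h0 h1
    have k1 : HexOut.Cn (y * y' * y⁻¹ * y'⁻¹) (AA σ z1) := SideFacts.cn_of_pure (((h2.mul h4).mul h2.inv).mul h4.inv)
      fun b => by
        change τ (ρ (τ.symm (ρ.symm b))) = b
        rw [aut_comm ρ τ.symm, RingEquiv.apply_symm_apply, RingEquiv.apply_symm_apply]
    have k2 : HexOut.Cn (y * y' * y⁻¹ * y'⁻¹) (AA σ z2) := SideFacts.cn_of_pure (((h3.mul h5).mul h3.inv).mul h5.inv)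
      fun b => by
        change τ' (ρ' (τ'.symm (ρ'.symm b))) = b
        rw [aut_comm ρ' τ'.symm, RingEquiv.apply_symm_apply, RingEquiv.apply_symm_apply]
    obtain ⟨k, hk⟩ := a.syl.two ⟨_, mul_mem (mul_mem (mul_mem hyP hyP') (inv_mem hyP)) (inv_mem hyP')⟩
    have h6 : y * y' * y⁻¹ * y'⁻¹ = 1 := by
      refine w.cent_D_two (fun v hv hvt hv2 => ?_) (x := y * y' * y⁻¹ * y'⁻¹) ?_ (k := k) (congrArg Subtype.val hk)
      · obtain ⟨k, hk⟩ := hv2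
        exact H.eq_of_two (mem_centralizer_iff.2 fun b hb => (hv b hb).symm) hvt hk
      · intro d hd
        obtain ⟨b, hb, c, hc, rfl⟩ := w.mem_D.1 hd
        have e1 := k1 b hb
        have e2 := k2 c hc
        calc y * y' * y⁻¹ * y'⁻¹ * (b * c) = (y * y' * y⁻¹ * y'⁻¹ * b) * c := by group
          _ = b * (y * y' * y⁻¹ * y'⁻¹ * c) := by rw [e1]; group
          _ = b * c * (y * y' * y⁻¹ * y'⁻¹) := by rw [e2]; group
    calc y * y' = (y * y' * y⁻¹ * y'⁻¹) * (y' * y) := by group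
      _ = y' * y := by rw [h6, one_mul]
  Yt y hy := by
    obtain ⟨hyP, ⟨τ, h2⟩, ⟨τ', h3⟩⟩ := mem_YY.1 hy
    have w := a.pr.wr C a.hx hω h0 h1
    have ti : t⁻¹ = t := w.ti
    refine mem_YY.2 ⟨mul_mem (mul_mem a.tP hyP) (inv_mem a.tP), ⟨τ', fun k b hb => ?_⟩, ⟨τ, fun k b hb => ?_⟩⟩
    · rw [← a.pr.t2 k (τ' b) (ok_aut hb), ← h3 k b hb, ← a.pr.t1 k b hb, ti]
      have e : t * (y * (t * z1 k b * t) * y⁻¹) * t = (t * y * t) * z1 k b * (t⁻¹ * y⁻¹ * t⁻¹) := by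
        rw [ti]; group
      rw [e]; group
    · rw [← a.pr.t1 k (τ b) (ok_aut hb), ← h2 k b hb, ← a.pr.t2 k b hb, ti]
      have e : t * (y * (t * z2 k b * t) * y⁻¹) * t = (t * y * t) * z2 k b * (t⁻¹ * y⁻¹ * t⁻¹) := by
        rw [ti]; group
      rw [e]; group
  dec f hf hfK := by
    obtain ⟨u1, hu1, u2, hu2, τ1, τ2, e1, e2⟩ := a.dec f hf hfK
    refine ⟨u1⁻¹, inv_mem hu1, u2⁻¹, inv_mem hu2, u1 * u2 * f, mem_YY.2 ⟨mul_mem (mul_mem (a.U1P hu1) (a.U2P hu2)) hf,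
      ⟨_, e1⟩, ⟨_, e2⟩⟩, ?_⟩
    have c := a.pr.comm (gen_mono (Set.subset_univ _) hu1) (gen_mono (Set.subset_univ _) hu2)
    rw [c]; group
  U1P := a.U1P
  U2P := a.U2P
  s₁ := SideFacts.side a.pr.pair.h1 (fun y hy => (mem_YY.1 hy).2.1) hq (by rw [hn]; exact card_UU a.hx a.pr.pair.h1) hc
  s₂ := SideFacts.side a.pr.pair.h2 (fun y hy => (mem_YY.1 hy).2.2) hq (by rw [hn]; exact card_UU a.hx a.pr.pair.h2) hc

end Ad

end

end Cfsg.Agent.HexToX
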