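import Cfsg.Agent.HexToX.SplitSyl
import Cfsg.Agent.WreathFusion.Kill

/-!
# S1778, types `G2(q)` and `3D4(q)`, `q ≥ 4`: the split case is impossible
-/

set_option autoImplicit false
set_option linter.unusedSectionVars false

namespace Cfsg.Agent.HexToX

open Cfsg Subgroup Cfsg.Agent.StdRank2.Hex Cfsg.Agent.SplitTwo Cfsg.Agent.StdEven.Syl
open Cfsg.Agent.StdEven.CoreQuot Cfsg.Agent.StdL2.Setup
open Cfsg.Agent.StdRank2.Hex.HexTwo
open Cfsg.Agent.HexGrow.Defs (Grown)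
open Cfsg.Agent.HexGrow.OfHexTwo (XX)

/-- **The split case is impossible.** -/
theorem split_false {E : Type*} [Field E] [Finite E] {σ : E ≃+* E} {G : Type*} [Group G] [Finite G]
    {x : ZMod 12 → E → G} {t : G} {L T : Subgroup G} {ω : E} (C : Conf L (AA σ x) t) (h : HexTwo σ x)
    (H : Hyp (AA σ x) t T) (hω : σ ω = ω) (h0 : ω ≠ 0) (h1 : ω ≠ 1) {V : ZMod 12 → Subgroup (XQ (AA σ x) t)}
    (W : Grown H.tX (hexX h H).H (XX σ (xX (AA σ x) t x)) (nn (xX (AA σ x) t x)) V)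
    {y1 y2 : ZMod 12 → E → XQ (AA σ x) t} (S : HexEight.Main.Split σ (xX (AA σ x) t x) H.tX V y1 y2) : False := by
  obtain ⟨S₁, S₂, D₁, D₂, hS, hp⟩ := syl_of_split C h H hω h0 h1 W S
  have hLn := C.normal
  exact WreathFusion.false_of_pdata C.simple
    (fun D hD => hD.trans ((commutator_mono le_top le_top).trans (HexOut.Cfg.comm_le (conf_mem_or C)))) hS hp

end Cfsg.Agent.HexToX
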