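import Cfsg.Agent.HexToX.Alt
import Cfsg.Agent.HexOut.Lift
import Cfsg.Agent.HexOut.Wreath
import Cfsg.Agent.TriTwo.InL
import Cfsg.Agent.HexStart.Inst
import Cfsg.Agent.StdEven.Perf

/-!
# S1778, types `G2(q)` and `3D4(q)`, `q ≥ 4`, split case: the two commuting groups in `G`

* `exists_lift` : the two commuting systems of `X` lift to commuting systems `z1`, `z2` of `G`, interchanged by `t`, with
  `x k a = z1 k a * z2 k a`;
* `wr` : the wreath configuration `HexOut.Wr`.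
-/

set_option autoImplicit false
set_option linter.unusedSectionVars false

namespace Cfsg.Agent.HexToX

open Cfsg Subgroup Cfsg.Agent.StdRank2.Hex Cfsg.Agent.SplitTwo Cfsg.Agent.StdEven.Syl
open Cfsg.Agent.StdEven.CoreQuot Cfsg.Agent.StdEven.Loc Cfsg.Agent.StdL2.Setup
open Cfsg.Agent.StdRank2.Hex.HexTwo
open Cfsg.Agent.HexGrow.Defs (UU Grown)
open Cfsg.Agent.HexGrow.OfHexTwo (XX)
open Cfsg.Agent.HexOut.Lift (LiftOf exists_liftOf)
open Cfsg.Agent.WreathFusion.HexPair (IsPair)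
open Cfsg.Agent.StdSpFour.Lift (Cb im_A_le)

section

variable {E : Type*} [Field E] [Finite E] {σ : E ≃+* E} {G : Type*} [Group G] [Finite G] {x : ZMod 12 → E → G}
  {t : G} {T : Subgroup G}

/-- the two systems in `G` -/
structure Pr (σ : E ≃+* E) (x : ZMod 12 → E → G) (t : G) (z1 z2 : ZMod 12 → E → G) : Prop where
  pair : IsPair σ z1 z2
  t1 : ∀ k a, Ok σ k a → t * z1 k a * t⁻¹ = z2 k a
  t2 : ∀ k a, Ok σ k a → t * z2 k a * t⁻¹ = z1 k a
  mul : ∀ k a, Ok σ k a → x k a = z1 k a * z2 k a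

theorem Pr.symm {z1 z2 : ZMod 12 → E → G} (p : Pr σ x t z1 z2) : Pr σ x t z2 z1 where
  pair := p.pair.symm
  t1 := p.t2
  t2 := p.t1
  mul k a ha := by rw [p.mul k a ha, (p.pair.comm k k a a ha ha)]

/-- **The lift of the two systems.** -/
theorem exists_lift (h : HexTwo σ x) (H : Hyp (AA σ x) t T) {ω : E} (h0 : ω ≠ 0) (h1 : ω ≠ 1)
    {V : ZMod 12 → Subgroup (XQ (AA σ x) t)}
    (W : Grown H.tX (hexX h H).H (XX σ (xX (AA σ x) t x)) (nn (xX (AA σ x) t x)) V)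
    {y1 y2 : ZMod 12 → E → XQ (AA σ x) t} (S : HexEight.Main.Split σ (xX (AA σ x) t x) H.tX V y1 y2) :
    ∃ z1 z2 : ZMod 12 → E → G, LiftOf (AA σ x) t σ y1 z1 ∧ LiftOf (AA σ x) t σ y2 z2 ∧ Pr σ x t z1 z2 := by
  have hV : ∀ r, V r ≤ Cb (AA σ x) t := fun r =>
    TriTwo.InL.V_le (hexX h H) ⟨ω, h0, h1⟩ (fun _ _ ha => (tX_comm h H ha).symm) W
      (fun _ _ => (hexX h H).mem_gen_singleton) inferInstance (by rw [← im_AA h H]; exact im_A_le H) r
  obtain ⟨z1, L1⟩ := exists_liftOf H S.hex1 fun k a ha => hV k (S.mem1 k a ha)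
  obtain ⟨z2, L2⟩ := exists_liftOf H S.hex2 fun k a ha => hV k (S.mem2 k a ha)
  have hp : IsPair σ y1 y2 := ⟨S.hex1, S.hex2, S.comm⟩
  have P := L1.pair H L2 hp
  refine ⟨z1, z2, L1, L2, P, fun k a ha => ?_, fun k a ha => ?_, fun k a ha => ?_⟩
  · exact L1.conj H L2 ha ha ⟨t, H.t_mem⟩ (S.t1 k a ha)
  · exact L2.conj H L1 ha ha ⟨t, H.t_mem⟩ (S.t2 k a ha)
  · refine L1.mul_eq H L2 ha ha (S.comm k k a a ha ha) ⟨x k a, H.A_le (x_mem_AA ha)⟩
      (HexOut.Lift.two_of_sq (h.x_sq ha)) ?_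
    rw [← S.mul k a ha, xX_eq' h H ha]

/-- a simple group from `A/Z(A)` simple and `Z(A) = 1` -/
theorem eq_bot_or_top {Q : Type*} [Group Q] (hs : IsSimpleGroup (Q ⧸ center Q)) (hz : center Q = ⊥) (M : Subgroup Q)
    [M.Normal] : M = ⊥ ∨ M = ⊤ := by
  have h1 : (M.map (QuotientGroup.mk' (center Q))).Normal :=
    Subgroup.Normal.map inferInstance _ (QuotientGroup.mk'_surjective _)
  rcases hs.eq_bot_or_eq_top_of_normal _ h1 with h2 | h2
  · left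
    rw [Subgroup.map_eq_bot_iff, QuotientGroup.ker_mk', hz] at h2
    exact le_bot_iff.1 h2
  · right
    rw [eq_top_iff]
    intro a _
    have h3 : QuotientGroup.mk' (center Q) a ∈ M.map (QuotientGroup.mk' (center Q)) := by rw [h2]; trivial
    obtain ⟨m, hm, e⟩ := h3
    rw [QuotientGroup.mk'_apply, QuotientGroup.mk'_apply, QuotientGroup.eq, hz, mem_bot, inv_mul_eq_one] at e
    rw [← e]
    exact hm

theorem center_bot (h : HexTwo σ x) : center ↥(AA σ x) = ⊥ := by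
  rw [eq_bot_iff]
  rintro ⟨z, hz⟩ hc
  rw [mem_bot]
  apply Subtype.ext
  change z = 1
  refine center_eq_one h hz fun k a ha => ?_
  have h2 := congrArg Subtype.val (mem_center_iff.mp hc ⟨x k a, x_mem_AA ha⟩)
  have h3 : x k a * z = z * x k a := h2
  rw [← h3]; group

namespace Pr

variable {z1 z2 : ZMod 12 → E → G} (p : Pr σ x t z1 z2)

include p

theorem comm {a b : G} (ha : a ∈ AA σ z1) (hb : b ∈ AA σ z2) : a * b = b * a :=
  (mem_centralizer_iff.1 (p.pair.le_centralizer Set.univ Set.univ ha) b hb).symm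

theorem conj1 {S : Set (ZMod 12)} {a : G} (ha : a ∈ StdRank2.Hex.gen σ z1 S) :
    t * a * t⁻¹ ∈ StdRank2.Hex.gen σ z2 S := by
  have h1 : StdRank2.Hex.gen σ z1 S ≤ (StdRank2.Hex.gen σ z2 S).comap (MulAut.conj t).toMonoidHom :=
    gen_le fun k hk a ha => by
      show t * z1 k a * t⁻¹ ∈ StdRank2.Hex.gen σ z2 S
      rw [p.t1 k a ha]
      exact x_mem_gen hk ha
  exact h1 ha

/-- the diagonal of the generated groups -/
theorem diag_gen {S : Set (ZMod 12)} {a : G} (ha : a ∈ StdRank2.Hex.gen σ z1 S) :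
    a * (t * a * t⁻¹) ∈ StdRank2.Hex.gen σ x S := by
  have hle : ∀ {b : G}, b ∈ StdRank2.Hex.gen σ z1 S → b ∈ AA σ z1 := fun hb => gen_mono (Set.subset_univ _) hb
  have hle2 : ∀ {b : G}, b ∈ StdRank2.Hex.gen σ z1 S → t * b * t⁻¹ ∈ AA σ z2 := fun hb =>
    gen_mono (Set.subset_univ _) (p.conj1 hb)
  refine closure_induction (p := fun a (_ : a ∈ StdRank2.Hex.gen σ z1 S) => a * (t * a * t⁻¹) ∈ StdRank2.Hex.gen σ x S)
    ?_ ?_ ?_ ?_ ha
  · rintro _ ⟨k, hk, a, ha, rfl⟩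
    rw [p.t1 k a ha, ← p.mul k a ha]
    exact x_mem_gen hk ha
  · have : (1 : G) * (t * 1 * t⁻¹) = 1 := by group
    rw [this]; exact one_mem _
  · intro a b ha hb h1 h2
    have e : a * b * (t * (a * b) * t⁻¹) = a * (t * a * t⁻¹) * (b * (t * b * t⁻¹)) := by
      have e2 := p.comm (hle hb) (hle2 ha)
      calc a * b * (t * (a * b) * t⁻¹) = a * (b * (t * a * t⁻¹)) * (t * b * t⁻¹) := by group
        _ = a * ((t * a * t⁻¹) * b) * (t * b * t⁻¹) := by rw [e2]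
        _ = _ := by group
    rw [e]
    exact mul_mem h1 h2
  · intro a ha h1
    have e : a⁻¹ * (t * a⁻¹ * t⁻¹) = (a * (t * a * t⁻¹))⁻¹ := by
      have e2 := p.comm (hle ha) (hle2 ha)
      rw [e2]; group
    rw [e]
    exact inv_mem h1

theorem of_diag_gen {S : Set (ZMod 12)} {a : G} (ha : a ∈ StdRank2.Hex.gen σ x S) :
    ∃ b ∈ StdRank2.Hex.gen σ z1 S, a = b * (t * b * t⁻¹) := by
  have hle : ∀ {b : G}, b ∈ StdRank2.Hex.gen σ z1 S → b ∈ AA σ z1 := fun hb => gen_mono (Set.subset_univ _) hb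
  have hle2 : ∀ {b : G}, b ∈ StdRank2.Hex.gen σ z1 S → t * b * t⁻¹ ∈ AA σ z2 := fun hb =>
    gen_mono (Set.subset_univ _) (p.conj1 hb)
  refine closure_induction (p := fun a (_ : a ∈ StdRank2.Hex.gen σ x S) =>
    ∃ b ∈ StdRank2.Hex.gen σ z1 S, a = b * (t * b * t⁻¹)) ?_ ?_ ?_ ?_ ha
  · rintro _ ⟨k, hk, a, ha, rfl⟩
    exact ⟨z1 k a, x_mem_gen hk ha, by rw [p.t1 k a ha, ← p.mul k a ha]⟩
  · exact ⟨1, one_mem _, by group⟩
  · rintro _ _ _ _ ⟨a, ha, rfl⟩ ⟨b, hb, rfl⟩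
    refine ⟨a * b, mul_mem ha hb, ?_⟩
    have e2 := p.comm (hle hb) (hle2 ha)
    calc a * (t * a * t⁻¹) * (b * (t * b * t⁻¹)) = a * ((t * a * t⁻¹) * b) * (t * b * t⁻¹) := by group
      _ = a * (b * (t * a * t⁻¹)) * (t * b * t⁻¹) := by rw [e2]
      _ = _ := by group
  · rintro _ _ ⟨a, ha, rfl⟩
    refine ⟨a⁻¹, inv_mem ha, ?_⟩
    have e2 := p.comm (hle ha) (hle2 ha)
    rw [e2]; group

theorem inf {a : G} (h1 : a ∈ AA σ z1) (h2 : a ∈ AA σ z2) : a = 1 := by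
  refine center_eq_one p.pair.h1 h1 fun k b hb => ?_
  have e := p.comm (x_mem_AA hb) h2
  rw [← e]; group

/-- **The wreath configuration.** -/
theorem wr {L : Subgroup G} (C : Conf L (AA σ x) t) (h : HexTwo σ x) {ω : E} (hω : σ ω = ω) (h0 : ω ≠ 0) (h1 : ω ≠ 1) :
    HexOut.Wr (AA σ x) (AA σ z1) (AA σ z2) t where
  tt := Cfsg.Agent.StdEven.Loc.tt C.ht
  comm _ ha _ hb := p.comm ha hb
  inf _ ha hb := p.inf ha hb
  sw := ⟨fun _ ha => p.conj1 ha, fun _ ha => p.symm.conj1 ha⟩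
  diag _ ha := p.diag_gen ha
  of_diag _ ha := p.of_diag_gen ha
  perf := WreathFusion.HexPair.perfect p.pair.h1 ⟨ω, h0, h1⟩
  inv := gen_le fun k _ a ha => subset_closure ⟨x_mem_AA ha, p.pair.h1.x_sq ha⟩
  simp N hN hn := by
    let f : ↥(AA σ x) → G := fun a => a
    let M : Subgroup ↥(AA σ x) :=
      { carrier := {a | ∃ n ∈ N, (a : G) = n * (t * n * t⁻¹)}
        one_mem' := ⟨1, one_mem _, by rw [OneMemClass.coe_one]; group⟩
        mul_mem' := by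
          rintro a b ⟨n, hn1, e⟩ ⟨m, hm1, e'⟩
          refine ⟨n * m, mul_mem hn1 hm1, ?_⟩
          have e2 := p.comm (hN hm1) (p.conj1 (hN hn1))
          rw [Subgroup.coe_mul, e, e']
          calc n * (t * n * t⁻¹) * (m * (t * m * t⁻¹)) = n * ((t * n * t⁻¹) * m) * (t * m * t⁻¹) := by group
            _ = n * (m * (t * n * t⁻¹)) * (t * m * t⁻¹) := by rw [e2]
            _ = _ := by group
        inv_mem' := by
          rintro a ⟨n, hn1, e⟩
          refine ⟨n⁻¹, inv_mem hn1, ?_⟩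
          have e2 := p.comm (hN hn1) (p.conj1 (hN hn1))
          rw [Subgroup.coe_inv, e, e2]; group }
    have hMn : M.Normal := by
      constructor
      rintro a ⟨n, hn1, e⟩ g
      obtain ⟨b, hb, eb⟩ := p.of_diag_gen g.2
      refine ⟨b * n * b⁻¹, hn b hb n hn1, ?_⟩
      have c1 := p.comm (hN hn1) (p.conj1 hb)
      have c2 := p.comm hb (p.conj1 hb)
      have c3 := p.comm hb (p.conj1 (hN hn1))
      have c4 : n * (t * b * t⁻¹)⁻¹ = (t * b * t⁻¹)⁻¹ * n := p.comm (hN hn1) (inv_mem (p.conj1 hb))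
      have c5 : b⁻¹ * (t * n * t⁻¹) = (t * n * t⁻¹) * b⁻¹ := p.comm (inv_mem hb) (p.conj1 (hN hn1))
      have c6 : b⁻¹ * (t * b * t⁻¹)= (t * b * t⁻¹) * b⁻¹ := p.comm (inv_mem hb) (p.conj1 hb)
      rw [Subgroup.coe_mul, Subgroup.coe_mul, Subgroup.coe_inv, e, eb]
      have e1 : b * (t * b * t⁻¹) * (n * (t * n * t⁻¹)) * (b * (t * b * t⁻¹))⁻¹ =
          b * ((t * b * t⁻¹) * n) * (t * n * t⁻¹) * (t * b * t⁻¹)⁻¹ * b⁻¹ := by group
      rw [e1, ← c1]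
      have e2 : b * n * b⁻¹ * (t * (b * n * b⁻¹) * t⁻¹) =
          b * n * (b⁻¹ * (t * b * t⁻¹)) * (t * n * t⁻¹) * (t * b * t⁻¹)⁻¹ := by group
      rw [e2, c6]
      have e3 : b⁻¹ * ((t * n * t⁻¹) * (t * b * t⁻¹)⁻¹) = ((t * n * t⁻¹) * (t * b * t⁻¹)⁻¹) * b⁻¹ :=
        p.comm (inv_mem hb) (mul_mem (p.conj1 (hN hn1)) (inv_mem (p.conj1 hb)))
      calc b * (n * (t * b * t⁻¹)) * (t * n * t⁻¹) * (t * b * t⁻¹)⁻¹ * b⁻¹ =
          b * (n * (t * b * t⁻¹)) * (((t * n * t⁻¹) * (t * b * t⁻¹)⁻¹) * b⁻¹) := by group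
        _ = b * (n * (t * b * t⁻¹)) * (b⁻¹ * ((t * n * t⁻¹) * (t * b * t⁻¹)⁻¹)) := by rw [e3]
        _ = _ := by group
    rcases eq_bot_or_top C.std.1.2 (center_bot h) M with h2 | h2
    · left
      rw [eq_bot_iff]
      intro n hn1
      have h3 : (⟨n * (t * n * t⁻¹), p.diag_gen (hN hn1)⟩ : ↥(AA σ x)) ∈ M := ⟨n, hn1, rfl⟩
      rw [h2, mem_bot] at h3
      have h4 : n * (t * n * t⁻¹) = 1 := congrArg Subtype.val h3
      rw [mem_bot]
      refine p.inf (hN hn1) ?_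
      rw [eq_inv_of_mul_eq_one_left h4]
      exact inv_mem (p.conj1 (hN hn1))
    · right
      refine le_antisymm hN fun a ha => ?_
      have h3 : (⟨a * (t * a * t⁻¹), p.diag_gen ha⟩ : ↥(AA σ x)) ∈ M := by rw [h2]; trivial
      obtain ⟨n, hn1, e⟩ := h3
      have e1 : a * (t * a * t⁻¹) = n * (t * n * t⁻¹) := e
      have e2 : n⁻¹ * a = (t * n * t⁻¹) * (t * a * t⁻¹)⁻¹ := by
        calc n⁻¹ * a = n⁻¹ * (a * (t * a * t⁻¹)) * (t * a * t⁻¹)⁻¹ := by group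
          _ = _ := by rw [e1]; group
      have e3 : n⁻¹ * a = 1 := p.inf (mul_mem (inv_mem (hN hn1)) ha) (by
        rw [e2]
        exact mul_mem (p.conj1 (hN hn1)) (inv_mem (p.conj1 ha)))
      rw [← inv_mul_eq_one.1 e3]
      exact hn1
  ne := fun e => by
    have h2 : z1 1 1 ∈ AA σ z1 := x_mem_AA (ok_one σ 1)
    rw [e, mem_bot, ← p.pair.h1.x_zero 1] at h2
    exact one_ne_zero ((p.pair.h1.x_inj (ok_one σ 1) (ok_zero σ 1)).1 h2)
  res B hB hBt hB2 := StdEven.Perf.le_of_perfect C.std C.ht C.htA C.cyc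
    (HexStart.sch_AA h (HexStart.notTwo_of hω h0 h1)) hB hBt hB2

end Pr

end

end Cfsg.Agent.HexToX
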