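import Cfsg.Agent.HexToX.SplitCfg
import Cfsg.Agent.HexOut.Final
import Cfsg.Agent.HexOut.FactsOf
import Cfsg.Agent.HexOut.IZero

/-!
# S1778, types `G2(q)` and `3D4(q)`, `q ≥ 4`: the Sylow 2-subgroup of `L` in the split case
-/

set_option autoImplicit false
set_option linter.unusedSectionVars false

namespace Cfsg.Agent.HexToX

open Cfsg Subgroup Cfsg.Agent.StdRank2.Hex Cfsg.Agent.SplitTwo Cfsg.Agent.StdEven.Syl
open Cfsg.Agent.StdEven.CoreQuot Cfsg.Agent.StdL2.Setup
open Cfsg.Agent.StdRank2.Hex.HexTwo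
open Cfsg.Agent.HexOut (MM KK Wr Cfg Swaps Cn Facts)
open Cfsg.Agent.HexGrow.Defs (Grown)
open Cfsg.Agent.HexGrow.OfHexTwo (XX)

local notation "Pu" => Cfsg.Agent.WreathFusion.HexPure.Pure

theorem conf_mem_or {G : Type*} [Group G] [Finite G] {L A : Subgroup G} {t : G} (C : Conf L A t) (g : G) :
    g ∈ L ∨ t * g ∈ L := by
  have hn := C.normal
  have htt := Cfsg.Agent.StdEven.Loc.tt C.ht
  let M : Subgroup G :=
    { carrier := {g | g ∈ L ∨ t * g ∈ L}
      one_mem' := Or.inl (one_mem _)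
      mul_mem' := by
        have hc : ∀ {a : G}, a ∈ L → t * a * t⁻¹ ∈ L := fun ha => hn.conj_mem _ ha t
        have ti : t⁻¹ = t := inv_eq_of_mul_eq_one_right htt
        rintro a b (ha | ha) (hb | hb)
        · exact Or.inl (mul_mem ha hb)
        · right
          have e : t * (a * b) = (t * a * t⁻¹) * (t * b) := by group
          rw [e]
          exact mul_mem (hc ha) hb
        · right
          have e : t * (a * b) = (t * a) * b := by group
          rw [e]
          exact mul_mem ha hb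
        · left
          have e : a * b = (t⁻¹ * (t * a) * t) * ((t * t)⁻¹ * (t * b)) := by group
          rw [e, htt, inv_one, one_mul]
          have h1 := hn.conj_mem _ ha t⁻¹
          rw [inv_inv] at h1
          exact mul_mem h1 hb
      inv_mem' := by
        rintro a (ha | ha)
        · exact Or.inl (inv_mem ha)
        · right
          have ti : t⁻¹ = t := inv_eq_of_mul_eq_one_right htt
          have e : t * a⁻¹ = (t * (t * a)⁻¹ * t⁻¹) * (t * t) := by group
          rw [e, htt, mul_one]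
          exact hn.conj_mem _ (inv_mem ha) t }
  have hM : L ⊔ zpowers t ≤ M := sup_le (fun a ha => Or.inl ha) (zpowers_le.2 (Or.inr (by rw [htt]; exact one_mem _)))
  rw [C.gen] at hM
  exact hM (mem_top g)

variable {E : Type*} [Field E] [Finite E] {σ : E ≃+* E} {G : Type*} [Group G] [Finite G] {x z1 z2 : ZMod 12 → E → G}
  {t : G} {L T : Subgroup G} {ω : E}

/-- `L` is perfect -/
theorem conf_perfect {G : Type*} [Group G] [Finite G] {L A : Subgroup G} {t : G} (C : Conf L A t) : commutator ↥L = ⊤ := by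
  have := C.simple
  rcases (inferInstance : (commutator ↥L).Normal).eq_bot_or_eq_top with h | h
  · exfalso
    apply C.not_comm
    rw [commutator_eq_bot_iff_center_eq_top] at h
    refine ⟨⟨fun a b => ?_⟩⟩
    have : b ∈ center ↥L := by rw [h]; exact mem_top _
    exact mem_center_iff.mp this a
  · exact h

/-- **The Sylow 2-subgroup of `L` for a split pair.** -/
theorem syl_of_pr (C : Conf L (AA σ x) t) (h : HexTwo σ x) (H : Hyp (AA σ x) t T) (hω : σ ω = ω) (h0 : ω ≠ 0)
    (h1 : ω ≠ 1) (p : Pr σ x t z1 z2) :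
    ∃ S₁ S₂ D₁ D₂ : Subgroup G, IsSyl (S₁ ⊔ S₂) L ∧ WreathFusion.PData (S₁ ⊔ S₂) S₁ S₂ D₁ D₂ := by
  obtain ⟨n₀, hn⟩ := HexOut.IZero.exists_n0 h
  have hc := HexOut.IZero.hc_of h hω h0 h1 hn
  obtain ⟨x', z1', z2', P, a, e, -, -⟩ := exists_ad p h C hω h0 h1
  have C' : Conf L (AA σ x') t := by rw [e]; exact C
  have H' : Hyp (AA σ x') t T := by rw [e]; exact H
  have cfg := a.cfg C' H' hω h0 h1 rfl (by rw [hn]; exact card_UU h a.hx) hc
  have hq2 : 2 < Nat.card {a : E // σ a = a} := by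
    have := HexOut.IZero.four_le h hω h0 h1
    omega
  have F := HexOut.FactsOf.facts a.hx a.pr.pair cfg hq2 hω h0 h1 (fun g hg => (mem_YY.1 hg).2.1)
    (fun g hg => (mem_YY.1 hg).2.2)
  have hLn := C.normal
  exact ⟨_, _, _, _, cfg.isSyl_E F (E := L) (conf_perfect C) (conf_mem_or C), a.pr.pair.pdata (Or.inl hq2)⟩

/-- **The Sylow 2-subgroup of `L` in the split case.** -/
theorem syl_of_split (C : Conf L (AA σ x) t) (h : HexTwo σ x) (H : Hyp (AA σ x) t T) (hω : σ ω = ω) (h0 : ω ≠ 0)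
    (h1 : ω ≠ 1) {V : ZMod 12 → Subgroup (XQ (AA σ x) t)}
    (W : Grown H.tX (hexX h H).H (XX σ (xX (AA σ x) t x)) (nn (xX (AA σ x) t x)) V)
    {y1 y2 : ZMod 12 → E → XQ (AA σ x) t} (S : HexEight.Main.Split σ (xX (AA σ x) t x) H.tX V y1 y2) :
    ∃ S₁ S₂ D₁ D₂ : Subgroup G, IsSyl (S₁ ⊔ S₂) L ∧ WreathFusion.PData (S₁ ⊔ S₂) S₁ S₂ D₁ D₂ := by
  obtain ⟨z1, z2, -, -, p⟩ := exists_lift h H h0 h1 W S
  exact syl_of_pr C h H hω h0 h1 p

end Cfsg.Agent.HexToX
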